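import Cfsg.Agent.Lib.M12Uniq.Setup
import Cfsg.Agent.Lib.M12Uniq.Congr
import Cfsg.Agent.Lib.M22Uniq.Invert

/-!
A simple group whose order divides 95040 and is divisible by eleven: generalities, and the values of
the principal block at elements centralizing a Sylow 11-subgroup.
-/

set_option linter.unusedSectionVars false
set_option linter.style.haveILetI false

namespace Cfsg.Agent.M12Graph

open Cfsg Cfsg.Agent.Char Cfsg.Agent.Blocks Cfsg.Agent.CCSylow Cfsg.Agent.DefOne Module

open scoped ComplexConjugate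

universe u

/-- A primitive cube root of unity. -/
noncomputable def omega3 : ℂ := ⟨-1 / 2, Real.sqrt 3 / 2⟩

theorem omega3_rel : omega3 ^ 2 + omega3 + 1 = 0 := by
  have h : Real.sqrt 3 * Real.sqrt 3 = 3 := Real.mul_self_sqrt (by norm_num)
  apply Complex.ext <;> simp [omega3, pow_two, Complex.mul_re, Complex.mul_im] <;> nlinarith [h]

theorem conj_omega3 : conj omega3 = omega3 ^ 2 := by
  have h : Real.sqrt 3 * Real.sqrt 3 = 3 := Real.mul_self_sqrt (by norm_num)
  apply Complex.ext <;> simp [omega3, pow_two, Complex.mul_re, Complex.mul_im] <;> nlinarith [h]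

theorem omega3_ext {a b a' b' : ℤ} (h : (a : ℂ) + b * omega3 = a' + b' * omega3) :
    a = a' ∧ b = b' := by
  have him := congrArg Complex.im h
  have hre := congrArg Complex.re h
  simp [omega3] at him hre
  have hs : Real.sqrt 3 / 2 ≠ 0 := by positivity
  have hb : (b : ℝ) = b' := by
    exact_mod_cast him
  have ha : (a : ℝ) = a' := by rw [hb] at hre; linarith
  exact ⟨by exact_mod_cast ha, by exact_mod_cast hb⟩

theorem cube_roots {z : ℂ} (h : z ^ 3 = 1) : z = 1 ∨ z = omega3 ∨ z = omega3 ^ 2 := by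
  have h2 : (z - 1) * ((z - omega3) * (z - omega3 ^ 2)) = 0 := by
    linear_combination h + ((z - 1) * (omega3 - 1 - z)) * omega3_rel
  rcases mul_eq_zero.1 h2 with r | r
  · exact Or.inl (sub_eq_zero.1 r)
  rcases mul_eq_zero.1 r with r | r
  · exact Or.inr (Or.inl (sub_eq_zero.1 r))
  · exact Or.inr (Or.inr (sub_eq_zero.1 r))

/-- A sum of cube roots of unity. -/
theorem exists_cube_counts (M : Multiset ℂ) (h : ∀ z ∈ M, z ^ 3 = 1) :
    ∃ a b c : ℕ, a + b + c = M.card ∧
      M.sum = (((a : ℤ) - c : ℤ) : ℂ) + (((b : ℤ) - c : ℤ) : ℂ) * omega3 := by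
  induction M using Multiset.induction with
  | empty => exact ⟨0, 0, 0, by simp, by simp⟩
  | cons z s ih =>
    obtain ⟨a, b, c, hn, hs⟩ := ih fun w hw => h w (Multiset.mem_cons_of_mem hw)
    rw [Multiset.card_cons, Multiset.sum_cons, hs]
    rcases cube_roots (h z (Multiset.mem_cons_self z s)) with rfl | rfl | rfl
    · exact ⟨a + 1, b, c, by omega, by push_cast; ring⟩
    · exact ⟨a, b + 1, c, by omega, by push_cast; ring⟩
    · exact ⟨a, b, c + 1, by omega, by push_cast; linear_combination omega3_rel⟩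

variable {G : Type u} [Group G] [Fintype G]

/-- The value of a character at an element of order three. -/
theorem value_three {H : Type*} [Group H] [Finite H] {χ : H → ℂ} (hχ : IsCharacter H χ) {d : ℕ}
    (hd : χ 1 = d) {w : H} (hw : orderOf w = 3) :
    ∃ a b c : ℕ, a + b + c = d ∧
      χ w = (((a : ℤ) - c : ℤ) : ℂ) + (((b : ℤ) - c : ℤ) : ℂ) * omega3 := by
  obtain ⟨n, ρ, rfl⟩ := hχ
  obtain ⟨M, h1, h2, h3, -⟩ := exists_eigenvalues ρ w
  obtain ⟨a, b, c, hn, hs⟩ := exists_cube_counts M fun z hz => hw ▸ h2 z hz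
  have h := h3 1
  simp only [pow_one, Multiset.map_id'] at h
  refine ⟨a, b, c, ?_, h.trans hs⟩
  rw [Representation.char_one] at hd
  have hd' : finrank ℂ (Fin n → ℂ) = d := by exact_mod_cast hd
  omega

/-- The value of a central character is integral. -/
theorem isIntegral_index_mul (χ : IrrCharacter G) (g : G) :
    IsIntegral ℤ (((Subgroup.centralizer ({g} : Set G)).index : ℂ) * (χ : G → ℂ) g /
      (charDegree (χ : G → ℂ) : ℂ)) := by
  obtain ⟨f, n, ρ, hρ, rfl⟩ := χ
  have hint := isIntegral_centralChar ρ g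
  have hd : (finrank ℂ (Fin n → ℂ) : ℂ) = (charDegree ρ.character : ℂ) := by
    rw [← Representation.char_one ρ]
    exact irr_one_eq_charDegree ⟨_, n, ρ, hρ, rfl⟩
  rw [hd] at hint
  exact hint

theorem isIntegral_conj {z : ℂ} (h : IsIntegral ℤ z) : IsIntegral ℤ (conj z) :=
  h.map (starRingEnd ℂ).toIntAlgHom

theorem isIntegral_omega3 : IsIntegral ℤ omega3 := by
  refine IsIntegral.of_pow (n := 3) (by norm_num) ?_
  have : omega3 ^ 3 = 1 := by linear_combination (omega3 - 1) * omega3_rel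
  rw [this]
  exact isIntegral_one

theorem dvd_of_integral_twice {z : ℂ} (hz : IsIntegral ℤ z) {d : ℕ} (hd : d ≠ 0) {m : ℤ}
    (h : (d : ℂ) * (z + conj z) = m) : (d : ℤ) ∣ m := by
  obtain ⟨k, -, hk⟩ := M11Local.int_of_eq (hz.add (isIntegral_conj hz)) hd h
  exact ⟨k, hk.symm⟩

/-- The two divisibilities from the integrality of a central character at an element of order three. -/
theorem dvd_three (χ : IrrCharacter G) (g : G) {a b : ℤ} (h : (χ : G → ℂ) g = a + b * omega3) :
    (charDegree (χ : G → ℂ) : ℤ) ∣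
      ((Subgroup.centralizer ({g} : Set G)).index : ℤ) * (2 * a - b) ∧
    (charDegree (χ : G → ℂ) : ℤ) ∣
      ((Subgroup.centralizer ({g} : Set G)).index : ℤ) * (-a - b) := by
  set i := (Subgroup.centralizer ({g} : Set G)).index
  set d := charDegree (χ : G → ℂ) with hd
  have hd0 : d ≠ 0 := (charDegree_pos χ).ne'
  have hdC : (d : ℂ) ≠ 0 := Nat.cast_ne_zero.2 hd0
  have hint := isIntegral_index_mul χ g
  rw [h, ← hd] at hint
  constructor
  · refine dvd_of_integral_twice hint hd0 ?_
    simp only [map_div₀, map_mul, map_add, map_natCast, map_intCast, conj_omega3]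
    field_simp
    push_cast
    linear_combination ((i : ℂ) * b) * omega3_rel
  · refine dvd_of_integral_twice (isIntegral_omega3.mul hint) hd0 ?_
    simp only [map_div₀, map_mul, map_add, map_natCast, map_intCast, conj_omega3]
    field_simp
    push_cast
    linear_combination ((i : ℂ) * a + (i : ℂ) * b * (omega3 ^ 2 - omega3 + 1)) * omega3_rel

theorem normSq_omega3 (a b : ℤ) :
    Complex.normSq ((a : ℂ) + b * omega3) = ((a * a - a * b + b * b : ℤ) : ℝ) := by
  have h : Real.sqrt 3 * Real.sqrt 3 = 3 := Real.mul_self_sqrt (by norm_num)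
  simp [omega3, Complex.normSq_apply]
  linear_combination ((b : ℝ) * b / 4) * h

/-- The restrictions that hold in a simple group of order dividing 95040, divisible by eleven. -/
structure Hyp (G : Type u) [Group G] : Prop where
  dvd : Nat.card G ∣ 95040
  eleven : 11 ∣ Nat.card G
  not_prime : ¬ (Nat.card G).Prime

namespace Hyp

theorem factorization (H : Hyp G) : (Nat.card G).factorization 11 = 1 := by
  have h11 : Nat.Prime 11 := by norm_num
  have h0 : Nat.card G ≠ 0 := Nat.card_pos.ne'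
  refine le_antisymm ?_ ((h11.dvd_iff_one_le_factorization h0).1 H.eleven)
  by_contra h
  have := ((h11.pow_dvd_iff_le_factorization h0).2 (by omega : 2 ≤ _)).trans H.dvd
  norm_num at this

theorem card_sylow (H : Hyp G) [Fact (Nat.Prime 11)] (P : Sylow 11 G) : Nat.card P = 11 := by
  rw [P.card_eq_multiplicity, H.factorization, pow_one]

theorem deg_dvd (χ : IrrCharacter G) (H : Hyp G) :
    charDegree (χ : G → ℂ) ∣ 95040 ∧ charDegree (χ : G → ℂ) ^ 2 ≤ Nat.card G := by
  classical
  refine ⟨(charDegree_dvd_card χ).trans H.dvd, ?_⟩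
  have h := Finset.single_le_sum (f := fun χ : IrrCharacter G => charDegree (χ : G → ℂ) ^ 2)
    (fun _ _ => Nat.zero_le _) (Finset.mem_univ χ)
  rwa [Cfsg.Agent.CharX.sum_deg_sq] at h

variable [IsSimpleGroup G]

theorem eq_principal (H : Hyp G) {χ : IrrCharacter G} (h : charDegree (χ : G → ℂ) = 1) :
    χ = principal G :=
  DefOne.Order7920.eq_principal_of_deg_one H.not_prime h

theorem norm_ne (H : Hyp G) {χ : IrrCharacter G} (hne : χ ≠ principal G) {g : G} (hg : g ≠ 1) :
    ‖(χ : G → ℂ) g‖ ≠ (charDegree (χ : G → ℂ) : ℝ) :=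
  DefOne.Order7920.norm_ne H.not_prime hne hg

theorem perfect (H : Hyp G) (f : G →* ℂˣ) : f = 1 := DefOne.Order7920.hom_eq_one H.not_prime f

/-- The value of a nontrivial character at an involution. -/
theorem involution_range (H : Hyp G) {χ : IrrCharacter G} (hne : χ ≠ principal G) {t : G}
    (ht : orderOf t = 2) :
    ∃ a : ℤ, (χ : G → ℂ) t = a ∧ (4 : ℤ) ∣ (charDegree (χ : G → ℂ) : ℤ) - a ∧
      |a| < (charDegree (χ : G → ℂ) : ℤ) := by
  have htt : t * t = 1 := by rw [← pow_two, ← ht, pow_orderOf_eq_one]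
  have ht1 : t ≠ 1 := fun h => by rw [h, orderOf_one] at ht; omega
  obtain ⟨a, ha, h4, hle⟩ := M12Uniq.involution_mod_four H.perfect
    (IsIrrCharacter.isCharacter χ.2) (irr_one_eq_charDegree χ) htt
  refine ⟨a, ha, h4, lt_of_le_of_ne hle fun he => ?_⟩
  have h := H.norm_ne hne ht1
  rw [ha, Complex.norm_intCast, ← Int.cast_abs, he, Int.cast_natCast] at h
  exact h rfl

end Hyp

section Fixed

variable {M : Ideal AlgInt} [M.IsPrime] (hM : IsPModular 11 M)
  {P V N : Subgroup G} {e : ℕ} (K : Conf 11 P V N e) [Fintype P] [Fintype V] [Fintype N]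
  [Fintype (P →* ℂˣ)]

include hM K

/-- Off the identity the values on the sections are constant: the fixed space of `P`. -/
theorem fixed_space {χ : IrrCharacter G} (hχ : χ ∈ principalBlock M G) :
    ∃ (ψ : V → ℂ) (c : ℕ), IsCharacter V ψ ∧ ψ 1 = c ∧
      (∀ w : V, (χ : G → ℂ) (w : G) - (charDegree (χ : G → ℂ) : ℂ) = 11 * (ψ w - c)) ∧
      ∑ y : P, (χ : G → ℂ) y = 11 * c := by
  classical
  obtain ⟨ψ, hψ, hψv⟩ := M12Uniq.exists_fixed_character (IsIrrCharacter.isCharacter χ.2) P V K.D.pv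
  obtain ⟨c, hc⟩ : ∃ c : ℕ, ψ 1 = c := by
    obtain ⟨n, ρ, rfl⟩ := hψ
    exact ⟨finrank ℂ (Fin n → ℂ), Representation.char_one ρ⟩
  have hsum : ∀ w : V, (χ : G → ℂ) (w : G) +
      ∑ y ∈ (Finset.univ : Finset P).erase 1, (χ : G → ℂ) y = 11 * ψ w := by
    intro w
    have h := hψv w
    rw [K.hP, ← Finset.add_sum_erase _ _ (Finset.mem_univ (1 : P)), OneMemClass.coe_one, one_mul,
      Finset.sum_congr rfl fun y hy => section_const K hM hχ y.2
        (fun h' => Finset.ne_of_mem_erase hy (Subtype.ext h')) w.2] at h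
    simpa using h
  have h1 := hsum 1
  rw [OneMemClass.coe_one, irr_one_eq_charDegree, hc] at h1
  refine ⟨ψ, c, hψ, hc, fun w => by linear_combination hsum w - h1, ?_⟩
  rw [← Finset.add_sum_erase _ _ (Finset.mem_univ (1 : P)), OneMemClass.coe_one,
    irr_one_eq_charDegree]
  exact h1

/-- The value at an involution centralizing `P`. -/
theorem involution_congr {χ : IrrCharacter G} (hχ : χ ∈ principalBlock M G) {w : V}
    (hw : orderOf (w : G) = 2) {a : ℤ} (ha : (χ : G → ℂ) (w : G) = a) :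
    (11 : ℤ) ∣ (charDegree (χ : G → ℂ) : ℤ) - a := by
  obtain ⟨ψ, c, hψ, hc, hval, -⟩ := fixed_space hM K hχ
  obtain ⟨k, hk, -⟩ := M11Local.involution_value hψ (t := w) (by rwa [← Subgroup.orderOf_coe]) hc
  have h := hval w
  rw [ha, hk] at h
  refine ⟨(c : ℤ) - k, ?_⟩
  have h' : ((a - charDegree (χ : G → ℂ) : ℤ) : ℂ) = ((11 * (k - c) : ℤ) : ℂ) := by
    push_cast; exact h
  have h'' : a - (charDegree (χ : G → ℂ) : ℤ) = 11 * (k - c) := by exact_mod_cast h'
  linarith

variable [IsSimpleGroup G] (H : Hyp G)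

include H

/-- The value at an element of order three centralizing `P`. -/
theorem three_value {χ : IrrCharacter G} (hχ : χ ∈ principalBlock M G) (hne : χ ≠ principal G)
    {w : V} (hw : orderOf (w : G) = 3) :
    ∃ p q : ℕ, 0 < p + q ∧ 11 * (p + q) ≤ charDegree (χ : G → ℂ) ∧
      (χ : G → ℂ) (w : G) = (((charDegree (χ : G → ℂ) : ℤ) - 11 * p - 22 * q : ℤ) : ℂ) +
        ((11 * ((p : ℤ) - q) : ℤ) : ℂ) * omega3 := by
  obtain ⟨ψ, k, hψ, hk, hval, -⟩ := fixed_space hM K hχ
  obtain ⟨a, b, c, habc, hχw⟩ :=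
    value_three (IsIrrCharacter.isCharacter χ.2) (irr_one_eq_charDegree χ) hw
  obtain ⟨a', b', c', habc', hψw⟩ :=
    value_three hψ hk (w := w) (by rwa [← Subgroup.orderOf_coe])
  have h := hval w
  rw [hχw, hψw] at h
  obtain ⟨e1, e2⟩ := omega3_ext (a := (a : ℤ) - c - charDegree (χ : G → ℂ)) (b := (b : ℤ) - c)
    (a' := 11 * ((a' : ℤ) - c' - k)) (b' := 11 * ((b' : ℤ) - c'))
    (by push_cast at h ⊢; linear_combination h)
  have hb11 : 11 ∣ b := by omega
  have hc11 : 11 ∣ c := by omega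
  obtain ⟨p, hp⟩ := hb11
  obtain ⟨q, hq⟩ := hc11
  refine ⟨p, q, Nat.pos_of_ne_zero fun h0 => ?_, by omega, ?_⟩
  · have hb0 : b = 0 := by rw [hp]; omega
    have hc0 : c = 0 := by rw [hq]; omega
    refine H.norm_ne hne (g := (w : G)) (fun h1 => by rw [h1, orderOf_one] at hw; omega) ?_
    rw [hχw, hb0, hc0, show a = charDegree (χ : G → ℂ) by omega]
    simp
  · rw [hχw, show (a : ℤ) - c = (charDegree (χ : G → ℂ) : ℤ) - 11 * p - 22 * q by omega,
      show (b : ℤ) - c = 11 * ((p : ℤ) - q) by omega]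

/-- A member with trivial fixed space forces `V` to be trivial. -/
theorem card_V_of_no_fixed {χ : IrrCharacter G} (hχ : χ ∈ principalBlock M G)
    (hne : χ ≠ principal G)
    (h0 : ∑ y : P, (χ : G → ℂ) y = 0) :
    Nat.card V = 1 := by
  obtain ⟨ψ, c, hψ, hc, hval, hsum⟩ := fixed_space hM K hχ
  rw [h0] at hsum
  have hc0 : c = 0 := by
    have : ((11 * c : ℕ) : ℂ) = ((0 : ℕ) : ℂ) := by push_cast; exact hsum.symm
    have : 11 * c = 0 := by exact_mod_cast this
    omega
  rw [Subgroup.card_eq_one, Subgroup.eq_bot_iff_forall]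
  intro w hw
  by_contra hw1
  have hψw : ψ ⟨w, hw⟩ = 0 := by
    obtain ⟨n, ρ, rfl⟩ := hψ
    have hn : n = 0 := by
      rw [Representation.char_one, finrank_pi, Fintype.card_fin, hc0] at hc
      exact_mod_cast hc
    subst hn
    show LinearMap.trace ℂ _ (ρ _) = 0
    rw [Subsingleton.elim (ρ _) 0, map_zero]
  have h := hval ⟨w, hw⟩
  rw [hψw, hc0] at h
  refine H.norm_ne hne hw1 ?_
  rw [show (χ : G → ℂ) w = (charDegree (χ : G → ℂ) : ℂ) by push_cast at h; linear_combination h]
  simp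

end Fixed

end Cfsg.Agent.M12Graph
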