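import Cfsg.Agent.Lib.M12Graph.Generated
import Cfsg.Agent.Lib.DefOne.Order7920
import Cfsg.Agent.Lib.NseAlt.Recognise

/-!
The two degrees seen from the perfect normal subgroup: it is not of order 660 modulo its centre, and a
complement to a normal simple subgroup of order 7920 is alternating of degree four.
-/

set_option linter.unusedSectionVars false
set_option linter.style.haveILetI false

namespace Cfsg.Agent.M12Graph

open Cfsg Cfsg.Agent.Char

universe u

theorem exists_constituent {G : Type u} [Group G] [Fintype G] (N : Subgroup G) [N.Normal] [Fintype N]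
    (χ : IrrCharacter G) : ∃ (θ : IrrCharacter N) (e : ℕ),
      charDegree (χ : G → ℂ) = e * charDegree (θ : N → ℂ) ∧ e ∣ N.index := by
  obtain ⟨θ, hθ⟩ := exists_restrict_constituent χ.2 N
  obtain ⟨e, he, hdvd⟩ := exists_ratio_dvd_index N χ.2 θ.2 hθ
  rw [CharX.irr_deg, CharX.irr_deg θ, ← Nat.cast_mul, Nat.cast_inj] at he
  exact ⟨θ, e, he, hdvd⟩

theorem dvd_constituent {p e t i : ℕ} (hp : p.Prime) (h : p ∣ e * t) (he : e ∣ i) (hi : ¬ p ∣ i) :
    p ∣ t :=
  (hp.dvd_mul.1 h).resolve_left fun h' => hi (h'.trans he)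

theorem quotient_ne_660 {G : Type u} [Group G] [Finite G] (hG : Nat.card G = 95040) (D : Deg G) :
    Nat.card (gen11 G ⧸ Subgroup.center (gen11 G)) ≠ 660 := by
  classical
  intro h
  haveI : Fintype G := Fintype.ofFinite G
  haveI := gen11_normal (G := G)
  obtain ⟨d, ⟨χ, rfl⟩, hd⟩ := D.fiftyFive
  obtain ⟨θ, e, he, hdvd⟩ := exists_constituent (gen11 G) χ
  have h660 : 660 ∣ Nat.card (gen11 G) := by
    rw [(Subgroup.center (gen11 G)).card_eq_card_quotient_mul_card_subgroup, h]
    exact dvd_mul_right _ _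
  have hidx : ¬ 5 ∣ (gen11 G).index := fun hd' => by
    have h1 := Nat.mul_dvd_mul hd' h660
    rw [(gen11 G).index_mul_card, hG] at h1
    norm_num at h1
  have h5 : 5 ∣ charDegree (θ : gen11 G → ℂ) := dvd_constituent (by norm_num)
    (he ▸ (show 5 ∣ 55 by norm_num).trans hd) hdvd hidx
  have h11 : 11 ∣ charDegree (θ : gen11 G → ℂ) := dvd_constituent (by norm_num)
    (he ▸ (show 11 ∣ 55 by norm_num).trans hd) hdvd (not_eleven_index hG (card_gen11 hG))
  have hsq := TwoDegrees.sq_le_index θ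
  rw [Subgroup.index_eq_card, h] at hsq
  have h55 := Nat.le_of_dvd (CharX.irr_deg_pos θ)
    (Nat.Coprime.mul_dvd_of_dvd_of_dvd (by norm_num : Nat.Coprime 5 11) h5 h11)
  nlinarith

/-- On a product with a commutative group an irreducible character restricts irreducibly. -/
theorem exists_factor_degree {A B : Type u} [Group A] [Group B] [Fintype A] [Fintype B]
    (hA : ∀ a b : A, a * b = b * a) (ψ : IrrCharacter (A × B)) :
    ∃ θ : IrrCharacter B, charDegree (θ : B → ℂ) = charDegree (ψ : A × B → ℂ) := by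
  classical
  have hc : IsCharacter B (fun b => (ψ : A × B → ℂ) ((1 : A), b)) :=
    IsCharacter.comp (IsIrrCharacter.isCharacter ψ.2) (MonoidHom.inr A B)
  have hnorm : ∀ a b, (ψ : A × B → ℂ) (a, b) * (starRingEnd ℂ) ((ψ : A × B → ℂ) (a, b)) =
      (ψ : A × B → ℂ) ((1 : A), b) * (starRingEnd ℂ) ((ψ : A × B → ℂ) ((1 : A), b)) := by
    intro a b
    obtain ⟨c, hc, hmul, -⟩ := IsIrrCharacter.exists_central_scalar ψ.2
      (show ((a, 1) : A × B) ∈ Subgroup.center (A × B) from Subgroup.mem_center_iff.2 fun x =>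
        Prod.ext (hA _ _) (by simp))
    have h := hmul ((1 : A), b)
    rw [Prod.mk_mul_mk, mul_one, one_mul] at h
    rw [h, Complex.mul_conj', Complex.mul_conj', norm_mul, hc, one_mul]
  have h1 : classInner (fun b => (ψ : A × B → ℂ) ((1 : A), b))
      (fun b => (ψ : A × B → ℂ) ((1 : A), b)) = 1 := by
    have h := classInner_self_irr ψ.2
    simp only [classInner, Fintype.sum_prod_type, hnorm, Finset.sum_const, Finset.card_univ,
      ← Nat.card_eq_fintype_card, Nat.card_prod, Nat.cast_mul, nsmul_eq_mul] at h ⊢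
    rw [← h]
    have hA0 : (Nat.card A : ℂ) ≠ 0 := Nat.cast_ne_zero.2 Nat.card_pos.ne'
    field_simp
  refine ⟨⟨_, IsCharacter.isIrr_of_norm_one hc h1⟩, ?_⟩
  have h2 := CharX.irr_deg (⟨_, IsCharacter.isIrr_of_norm_one hc h1⟩ : IrrCharacter B)
  exact_mod_cast h2.symm.trans (CharX.irr_deg ψ)

theorem not_dvd_7920 {L : Type u} [Group L] [Fintype L] [IsSimpleGroup L] (hL : Nat.card L = 7920)
    (θ : IrrCharacter L) : ¬ 33 ∣ charDegree (θ : L → ℂ) := by
  classical
  have h := Multiset.mem_map_of_mem (fun χ : IrrCharacter L => charDegree (χ : L → ℂ))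
    (Finset.mem_univ θ)
  rw [DefOne.Order7920.degrees hL] at h
  simp only [Multiset.insert_eq_cons, Multiset.mem_cons, Multiset.mem_singleton] at h
  omega

/-- The complement. -/
theorem complement_alt4 {G C L : Type u} [Group G] [Fintype G] [Group C] [Finite C] [Group L]
    [Fintype L] [IsSimpleGroup L] (hL : Nat.card L = 7920) (hC : Nat.card C = 12) (f : C × L ≃* G)
    (h33 : ∃ d ∈ Cfsg.charDegrees G, 33 ∣ d) :
    Nonempty (C ≃* alternatingGroup (Fin 4)) := by
  classical
  haveI : Fact (Nat.Prime 3) := ⟨Nat.prime_three⟩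
  refine NseAlt.equiv_alt4 hC ?_
  show Nat.card {g : C // orderOf g = 3} = 8
  rw [M12Uniq.count_prime (m := 4) (by rw [hC]) (by norm_num)]
  have hmem := Small.sylow_number_mem (G := C) (p := 3) (k := 1) (m := 4) (by rw [hC]; norm_num)
    (by norm_num)
  rw [show (4 : ℕ).divisors.filter (fun d => d % 3 = 1) = {1, 4} by decide +kernel] at hmem
  simp only [Finset.mem_insert, Finset.mem_singleton] at hmem
  rcases hmem with h1 | h4
  swap
  · rw [h4]
  exfalso
  obtain ⟨T⟩ : Nonempty (Sylow 3 C) := inferInstance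
  haveI : Subsingleton (Sylow 3 C) := (Nat.card_eq_one_iff_unique.1 h1).1
  haveI hTn : (T : Subgroup C).Normal := T.normal_of_subsingleton
  have hT : Nat.card (T : Subgroup C) = 3 := by
    rw [Small.sylow_card (k := 1) (m := 4) (by rw [hC]; norm_num) (by norm_num) T, pow_one]
  haveI : IsCyclic (T : Subgroup C) := isCyclic_of_prime_card hT
  let ι : ↥(T : Subgroup C) × L →* G :=
    f.toMonoidHom.comp ((T : Subgroup C).subtype.prodMap (MonoidHom.id L))
  have hι : Function.Injective ι :=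
    f.injective.comp (Prod.map_injective.2 ⟨(T : Subgroup C).subtype_injective, fun _ _ => id⟩)
  set N := ι.range with hN
  haveI hNn : N.Normal := by
    refine ⟨?_⟩
    rintro _ ⟨⟨t, l⟩, rfl⟩ g
    obtain ⟨⟨c, m⟩, rfl⟩ := f.surjective g
    refine ⟨(⟨c * t * c⁻¹, hTn.conj_mem _ t.2 c⟩, m * l * m⁻¹), ?_⟩
    show f (c * t * c⁻¹, m * l * m⁻¹) = f (c, m) * f ((t : C), l) * (f (c, m))⁻¹
    rw [← map_mul, ← map_inv, ← map_mul]
    rfl
  haveI : Fintype N := Fintype.ofFinite N
  haveI : Fintype (T : Subgroup C) := Fintype.ofFinite _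
  have hNc : Nat.card N = 3 * 7920 := by
    rw [hN, ← Nat.card_congr (MonoidHom.ofInjective hι).toEquiv, Nat.card_prod, hT, hL]
  have hidx : N.index = 4 := by
    have h := N.index_mul_card
    rw [hNc, ← Nat.card_congr f.toEquiv, Nat.card_prod, hC, hL] at h
    omega
  obtain ⟨d, ⟨χ, rfl⟩, hd⟩ := h33
  obtain ⟨ψ, e, he, hdvd⟩ := exists_constituent N χ
  rw [hidx] at hdvd
  rw [he] at hd
  have h33ψ : 33 ∣ charDegree (ψ : N → ℂ) :=
    (((show Nat.Coprime 33 4 by norm_num).symm.coprime_dvd_left hdvd).symm).dvd_of_dvd_mul_left hd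
  obtain ⟨θ, hθ⟩ := exists_factor_degree (fun a b => IsCyclic.commGroup.mul_comm a b)
    ⟨_, IsIrrCharacter.comp ψ.2 (MonoidHom.ofInjective hι).toMonoidHom
      (MonoidHom.ofInjective hι).surjective⟩
  refine not_dvd_7920 hL θ ?_
  rw [hθ]
  have hdeg : charDegree (fun x => (ψ : N → ℂ) ((MonoidHom.ofInjective hι).toMonoidHom x)) =
      charDegree (ψ : N → ℂ) := by
    simp [charDegree]
  show 33 ∣ charDegree (fun x => (ψ : N → ℂ) ((MonoidHom.ofInjective hι).toMonoidHom x))
  rw [hdeg]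
  exact h33ψ

end Cfsg.Agent.M12Graph
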