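import Cfsg.Agent.Lib.M12Uniq.ElevenDegrees
import Cfsg.Agent.Lib.M12Uniq.CharEleven
import Cfsg.Agent.Lib.M12Uniq.FromChar
import Cfsg.Agent.Lib.Golay.Mathieu
import Cfsg.Prelude.Def_DegreeGraph

/-!
A simple group of order 95040 has degrees divisible by fifty-five and by thirty-three.
-/

set_option linter.unusedSectionVars false
set_option linter.style.haveILetI false

namespace Cfsg.Agent.M12Graph

open Cfsg Cfsg.Agent.Char Cfsg.Agent.Blocks

open scoped ComplexConjugate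

universe u

theorem eleven_quot_check : ((List.range 309).all fun d => !(Nat.beq (95040 % d) 0) ||
    !(Nat.beq (d % 11) 0) || Nat.beq (d % 3) 0 ||
    ([11, 22, 44, 55, 88, 110, 176, 220] : List ℕ).contains d) = true := by decide +kernel

theorem eleven_quot (d : ℕ) (hd : d < 309) (h1 : d ∣ 95040) (h2 : 11 ∣ d) (h3 : ¬ 3 ∣ d) :
    d ∈ [11, 22, 44, 55, 88, 110, 176, 220] := by
  have h := List.all_eq_true.1 eleven_quot_check d (List.mem_range.2 hd)
  simp only [Bool.or_eq_true, Bool.not_eq_true', ← Bool.not_eq_true, Nat.beq_eq,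
    List.contains_iff_mem] at h
  rw [Nat.dvd_iff_mod_eq_zero] at h1 h2 h3
  tauto

theorem no_count {a b c d e : ℕ} (ha : 1 ≤ a)
    (h : 2 + 25 * a + 64 * b + 100 * c + 256 * d + 400 * e = 450) : False := by omega

theorem exists_degrees {G : Type u} [Group G] [Finite G] [IsSimpleGroup G] (hG : Nat.card G = 95040) :
    (∃ d ∈ Cfsg.charDegrees G, 55 ∣ d) ∧ ∃ d ∈ Cfsg.charDegrees G, 33 ∣ d := by
  classical
  haveI : Fintype G := Fintype.ofFinite G
  obtain ⟨h11, hN, x, c₁, c₂, c₃, c₄, θ, θ', δ, h⟩ := M12Uniq.eleven_degrees hG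
  rcases h with E | ⟨E, hδ, s, hs, hC, h1, h2, h3, h4, h5⟩
  · exact (M12Uniq.not_oneSixty hG E).elim
  subst hδ
  obtain ⟨y, u, w, T⟩ := M12Uniq.exists_ten hG E h11
  obtain ⟨χ, χ', hne, hd, hd', -, -, -, -, hsmall⟩ :=
    M12Uniq.degrees hG E T hs hC h1 h2 h3 h4 h5
  obtain ⟨ξ, -, hξ1, -, -, hskew⟩ := M12Uniq.exists_char hG E T h11 hs hC h1 h2 h3 h4 h5
  set Λ : IrrCharacter G := ⟨_, hskew⟩ with hΛdef
  have hΛ : charDegree (Λ : G → ℂ) = 55 := by
    have h := irr_one_eq_charDegree Λ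
    have h' : (Λ : G → ℂ) 1 = ((55 : ℕ) : ℂ) := by
      show (ξ 1 * ξ 1 - ξ (1 * 1)) / 2 = _
      rw [one_mul, hξ1]; norm_num
    rw [h'] at h
    exact_mod_cast h.symm
  refine ⟨⟨55, ⟨Λ, hΛ⟩, dvd_rfl⟩, ?_⟩
  by_contra hno
  have hno' : ∀ ψ : IrrCharacter G, ¬ 33 ∣ charDegree (ψ : G → ℂ) := fun ψ h =>
    hno ⟨_, ⟨ψ, rfl⟩, h⟩
  set L := [principal G, c₁, c₂, c₃, c₄, θ, θ'] with hL
  set O := (Finset.univ : Finset (IrrCharacter G)) \ L.toFinset with hO
  set D : IrrCharacter G → ℕ := fun ψ => charDegree (ψ : G → ℂ) with hD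
  have hp1 : D (principal G) = 1 := Cfsg.Agent.CharX.charDegree_one
  have hsum : ∑ ψ ∈ O, D ψ ^ 2 = 121 * 450 := by
    have h : ∑ ψ : IrrCharacter G, D ψ ^ 2 = 95040 := Cfsg.Agent.CharX.sum_deg_sq.trans hG
    rw [← Finset.sum_sdiff (Finset.subset_univ L.toFinset), ← hO, List.sum_toFinset _ E.nodup] at h
    simp only [hL, List.map_cons, List.map_nil, List.sum_cons, List.sum_nil, add_zero, hp1] at h
    simp only [hD, E.deg₁, E.deg₂, E.deg₃, E.deg₄, E.degθ, E.degθ'] at h ⊢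
    omega
  have hLdeg : ∀ ψ ∈ L, ¬ 11 ∣ D ψ := by
    intro ψ hψ
    simp only [hL, List.mem_cons, List.not_mem_nil, or_false] at hψ
    rcases hψ with r | r | r | r | r | r | r <;> subst r <;>
      first
        | (rw [hp1]; norm_num)
        | (simp only [hD, E.deg₁, E.deg₂, E.deg₃, E.deg₄, E.degθ, E.degθ']; norm_num)
  have hmemO : ∀ ψ : IrrCharacter G, 11 ∣ D ψ → ψ ∈ O := fun ψ h =>
    Finset.mem_sdiff.2 ⟨Finset.mem_univ _, fun h' => hLdeg ψ (List.mem_toFinset.1 h') h⟩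
  have hval : ∀ ψ ∈ O, D ψ ∈ [11, 55, 88, 110, 176, 220] ∧ (D ψ = 11 → ψ = χ ∨ ψ = χ') := by
    intro ψ hψ
    have hψL : ψ ∉ L := fun h => (Finset.mem_sdiff.1 hψ).2 (List.mem_toFinset.2 h)
    obtain ⟨h308, hdvd⟩ := M12Uniq.deg_facts hG ψ
    have h11d : 11 ∣ D ψ := (E.others ψ hψL).1
    have h3 : ¬ 3 ∣ D ψ := fun h => hno' ψ (by
      have : Nat.Coprime 3 11 := by norm_num
      exact this.mul_dvd_of_dvd_of_dvd h h11d)
    have hm := eleven_quot (D ψ) (by show charDegree (ψ : G → ℂ) < 309; omega) hdvd h11d h3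
    have hs' : D ψ ≤ 65 → ψ = χ ∨ ψ = χ' ∨ D ψ = 55 := fun hle => by
      simp only [hL, List.mem_cons, List.not_mem_nil, or_false, not_or] at hψL
      rcases hsmall ψ hle with r | r | r | r | r | r | r | r
      · exact absurd r hψL.1
      · exact Or.inl r
      · exact Or.inr (Or.inl r)
      · exact absurd r hψL.2.2.2.2.2.1
      · exact absurd r hψL.2.2.2.2.2.2
      · exact absurd r hψL.2.1
      · exact absurd r hψL.2.2.1
      · exact Or.inr (Or.inr r)
    constructor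
    · simp only [List.mem_cons, List.not_mem_nil, or_false] at hm ⊢
      by_cases hle : D ψ ≤ 65
      · rcases hs' hle with r | r | r
        · left; rw [r]; exact hd
        · left; rw [r]; exact hd'
        · exact Or.inr (Or.inl r)
      · omega
    · intro h
      rcases hs' (by omega) with r | r | r
      · exact Or.inl r
      · exact Or.inr r
      · omega
  have hfib : ∑ ψ ∈ O, D ψ ^ 2 =
      ∑ k ∈ ([11, 55, 88, 110, 176, 220] : List ℕ).toFinset,
        (O.filter fun ψ => D ψ = k).card * k ^ 2 := by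
    rw [← Finset.sum_fiberwise_of_maps_to
      (t := ([11, 55, 88, 110, 176, 220] : List ℕ).toFinset) (g := D)
      (fun ψ hψ => List.mem_toFinset.2 (hval ψ hψ).1)]
    refine Finset.sum_congr rfl fun k _ => ?_
    rw [Finset.sum_congr rfl fun ψ hψ => by rw [(Finset.mem_filter.1 hψ).2], Finset.sum_const,
      smul_eq_mul]
  have h11card : (O.filter fun ψ => D ψ = 11).card = 2 := by
    rw [show (O.filter fun ψ => D ψ = 11) = {χ, χ'} from ?_, Finset.card_pair hne]
    ext ψ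
    simp only [Finset.mem_filter, Finset.mem_insert, Finset.mem_singleton]
    constructor
    · exact fun h => (hval ψ h.1).2 h.2
    · rintro (rfl | rfl)
      · exact ⟨hmemO _ (by simp only [hD, hd]; norm_num), hd⟩
      · exact ⟨hmemO _ (by simp only [hD, hd']; norm_num), hd'⟩
  have h55card : 1 ≤ (O.filter fun ψ => D ψ = 55).card :=
    Finset.card_pos.2 ⟨Λ, Finset.mem_filter.2 ⟨hmemO _ (by simp only [hD, hΛ]; norm_num), hΛ⟩⟩
  rw [hsum, List.sum_toFinset _ (by decide)] at hfib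
  simp only [List.map_cons, List.map_nil, List.sum_cons, List.sum_nil, add_zero, h11card] at hfib
  refine no_count h55card (b := (O.filter fun ψ => D ψ = 88).card)
    (c := (O.filter fun ψ => D ψ = 110).card) (d := (O.filter fun ψ => D ψ = 176).card)
    (e := (O.filter fun ψ => D ψ = 220).card) ?_
  omega

/-- The two edges in the Mathieu group. -/
theorem edges_M12 : (∃ d ∈ Cfsg.charDegrees ↥Cfsg.Spor.M12, 55 ∣ d) ∧
    ∃ d ∈ Cfsg.charDegrees ↥Cfsg.Spor.M12, 33 ∣ d := by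
  haveI : IsSimpleGroup ↥Cfsg.Spor.M12 := by
    rw [Golay.sporM12_eq]
    exact Golay.isSimpleGroup_M12
  exact exists_degrees Golay.card_sporM12

/-- A group with the graph of `M₁₂` has degrees divisible by fifty-five and by thirty-three. -/
theorem degrees_of_graph {G : Type u} [Group G]
    (h : Cfsg.degreeGraph G = Cfsg.degreeGraph ↥Cfsg.Spor.M12) :
    (∃ d ∈ Cfsg.charDegrees G, 55 ∣ d) ∧ ∃ d ∈ Cfsg.charDegrees G, 33 ∣ d := by
  have key : ∀ p q : ℕ, p.Prime → q.Prime → p ≠ q →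
      (∃ d ∈ Cfsg.charDegrees ↥Cfsg.Spor.M12, p * q ∣ d) → ∃ d ∈ Cfsg.charDegrees G, p * q ∣ d := by
    intro p q hp hq hpq hd
    have hadj : (Cfsg.degreeGraph ↥Cfsg.Spor.M12).Adj p q := ⟨hpq, hp, hq, hd⟩
    rw [← h] at hadj
    exact hadj.2.2.2
  exact ⟨key 5 11 (by norm_num) (by norm_num) (by norm_num) edges_M12.1,
    key 3 11 (by norm_num) (by norm_num) (by norm_num) edges_M12.2⟩

end Cfsg.Agent.M12Graph
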