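import Cfsg.Agent.Lib.M12Graph.Kill

/-!
The patterns at eleven when the normaliser induces a group of order five.
-/

set_option linter.unusedSectionVars false
set_option linter.style.haveILetI false

namespace Cfsg.Agent.M12Graph

open Cfsg Cfsg.Agent.Char Cfsg.Agent.Blocks Cfsg.Agent.CCSylow Cfsg.Agent.DefOne
open Cfsg.Agent.M12Uniq (signDeg)

universe u

variable {G : Type u} [Group G] [Fintype G] [IsSimpleGroup G] (H : Hyp G)
  [Fact (Nat.Prime 11)] {P : Sylow 11 G} {V : Subgroup G}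
  (K : Conf 11 (P : Subgroup G) V (Subgroup.normalizer ((P : Subgroup G) : Set G)) 5)

include H K

/-- No pattern with five ordinary members. -/
theorem five_dead [Fintype V] {N lo : ℕ} {L T : List ℕ} {good : List ℕ → Bool}
    (hN : Nat.card G = N) (hlo : (lo = 23 ∧ 2 ∣ Nat.card V) ∨ (lo = 11 ∧ 3 ∣ Nat.card V))
    (hL : degOK N lo 1 L = true) (hT : degOK N lo 5 T = true)
    (hall : allMulti (fiveTest N T good) 4 L [] = true)
    (hgood : ∀ l, good l = true → 3 ∣ Nat.card V ∧
      threeDead N ((listTotal l).natAbs :: (listTotal l).natAbs :: l) = true) : False := by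
  classical
  obtain ⟨M, hM⟩ := exists_isPModular_witness 11
  haveI := IsPModular.isPrime hM
  haveI : Fintype (P : Subgroup G) := Fintype.ofFinite _
  haveI : Fintype (Subgroup.normalizer ((P : Subgroup G) : Set G)) := Fintype.ofFinite _
  haveI : Fintype ((P : Subgroup G) →* ℂˣ) := Fintype.ofFinite _
  obtain ⟨eb, X, Y, δ, sg, F⟩ := exists_families K hM (trivB V)
  obtain ⟨hXc, hYc, hXd, hYd, hrel, hagree, hprin⟩ := M12Uniq.families_facts hM (by norm_num) K F
  obtain ⟨hpX, hpsg⟩ := hprin.resolve_right fun h => by rw [h] at hYc; simp at hYc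
  have hd1 : charDegree (principal G : G → ℂ) = 1 := Cfsg.Agent.CharX.charDegree_one
  obtain ⟨θ, hθ⟩ := F.nonempty
  have hY2 : Y.card = 2 := by omega
  have hbound : ∀ χ, χ ∈ X ∨ χ ∈ Y → χ ≠ principal G → lo ≤ charDegree (χ : G → ℂ) := by
    intro χ h hne
    rcases hlo with ⟨rfl, h2⟩ | ⟨rfl, h3⟩
    · exact two_bound H K hM F h hne h2
    · exact three_bound H K hM F h hne h3
  have hdeg : ∀ χ : IrrCharacter G, charDegree (χ : G → ℂ) * charDegree (χ : G → ℂ) ≤ N ∧
      charDegree (χ : G → ℂ) ∣ N := fun χ =>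
    ⟨by rw [← hN, ← pow_two]; exact (H.deg_dvd χ).2, hN ▸ charDegree_dvd_card χ⟩
  have hN95 : N ≤ 95040 := hN ▸ Nat.le_of_dvd (by norm_num) H.dvd
  set Z := X.erase (principal G) with hZ
  have hX : ∀ χ ∈ Z, charDegree (χ : G → ℂ) ∈ L ∧ sg χ = signDeg (charDegree (χ : G → ℂ)) := by
    intro χ hχ
    have hx := Finset.mem_of_mem_erase hχ
    have hne := Finset.ne_of_mem_erase hχ
    obtain ⟨h1, h2, -⟩ := signed_member H K hM F hne (F.signX χ hx) (hXd χ hx)
    exact ⟨degOK_sound hL (hbound χ (Or.inl hx) hne) (hdeg χ).1 hN95 (hdeg χ).2 h1, h2⟩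
  have hθp : θ ≠ principal G := fun h => Finset.disjoint_left.1 F.disj hpX (h ▸ hθ)
  set t := charDegree (θ : G → ℂ) with ht
  have htm := hYd θ hθ
  have htT : t ∈ T := degOK_sound hT (hbound θ (Or.inr hθ) hθp) (hdeg θ).1 hN95 (hdeg θ).2 (by
    rw [Int.ModEq] at htm; rcases F.sign with r | r <;> rw [r] at htm <;> push_cast at htm <;> omega)
  obtain ⟨l, hl, hPl⟩ := allMulti_sound hall (Z.val.map fun χ : IrrCharacter G => charDegree (χ : G → ℂ))
    (by rw [Multiset.card_map, Finset.card_val, hZ, Finset.card_erase_of_mem hpX, hXc])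
    (fun d hd => by obtain ⟨χ, hχ, rfl⟩ := Multiset.mem_map.1 hd; exact (hX χ hχ).1)
  rw [Multiset.coe_nil, add_zero] at hl
  have hlsum : ∀ {β : Type} [AddCommMonoid β] (f : ℕ → β),
      (l.map f).sum = ∑ χ ∈ Z, f (charDegree (χ : G → ℂ)) := by
    intro β _ f
    rw [← Multiset.sum_coe, ← Multiset.map_coe, hl, Multiset.map_map]
    rfl
  have htot : listTotal l + δ * (t : ℤ) = 0 := by
    have h := hrel θ hθ
    rw [← Finset.add_sum_erase _ _ hpX, hpsg, hd1, ← hZ] at h
    rw [listTotal, hlsum fun d => signDeg d * (d : ℤ)]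
    rw [Finset.sum_congr rfl fun χ hχ => by rw [(hX χ hχ).2]] at h
    simpa using h
  have htn : (listTotal l).natAbs = t := by rcases F.sign with r | r <;> rw [r] at htot <;> omega
  have ht0 : 0 < t := charDegree_pos θ
  have hmod : (((listTotal l).natAbs : ℕ) : ℤ) % 11 =
      (5 * (if 0 < listTotal l then 1 else -1)) % 11 := by
    rw [htn]
    rw [Int.ModEq] at htm
    rcases F.sign with r | r <;> rw [r] at htot htm <;> push_cast at htm <;> split_ifs <;> omega
  have hsq : listSq l + 2 * ((listTotal l).natAbs * (listTotal l).natAbs) ≤ N := by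
    have h := Finset.sum_le_sum_of_subset (f := fun χ : IrrCharacter G => charDegree (χ : G → ℂ) ^ 2)
      (Finset.subset_univ (X ∪ Y))
    rw [Cfsg.Agent.CharX.sum_deg_sq, hN, Finset.sum_union F.disj, ← Finset.add_sum_erase _ _ hpX,
      hd1, ← hZ, Finset.sum_congr (s₁ := Y) rfl fun χ hχ => by rw [hagree χ hχ θ hθ],
      Finset.sum_const, hY2, smul_eq_mul] at h
    rw [listSq, htn, hlsum fun d => d * d]
    simpa [pow_two] using h
  simp only [fiveTest, Bool.or_eq_true, Bool.not_eq_true', ← Bool.not_eq_true, List.contains_iff_mem,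
    decide_eq_true_eq, Nat.ble_eq] at hPl
  rcases hPl with ((h | h) | h) | h
  · exact h (htn ▸ htT)
  · exact h hmod
  · exact h hsq
  obtain ⟨h3, hdead⟩ := hgood l h
  rw [htn] at hdead
  have hdisj : Disjoint Z Y := F.disj.mono_left (Finset.erase_subset _ _)
  refine three_kill H K hM F h3 (U := Z.disjUnion Y hdisj) (fun χ hχ => ?_) (l := t :: t :: l) ?_
    (hN ▸ hdead)
  · rcases Finset.mem_disjUnion.1 hχ with h' | h'
    · exact ⟨Or.inl (Finset.mem_of_mem_erase h'), Finset.ne_of_mem_erase h'⟩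
    · exact ⟨Or.inr h', fun hp => Finset.disjoint_left.1 F.disj hpX (hp ▸ h')⟩
  · have hY : Y.val.map (fun χ : IrrCharacter G => charDegree (χ : G → ℂ)) = {t, t} := by
      rw [Multiset.map_congr rfl fun χ hχ => hagree χ hχ θ hθ, Multiset.map_const', Finset.card_val,
        hY2]
      rfl
    show (Z.val + Y.val).map _ = _
    rw [Multiset.map_add, hY, ← hl, ← Multiset.cons_coe, ← Multiset.cons_coe]
    simp [Multiset.add_cons]
    rw [add_comm, Multiset.singleton_add]
    rfl

/-- With five, the centralizer of an element of order eleven has order one, or twelve, times eleven. -/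
theorem five_cases {v : ℕ} (hv : Nat.card V = v) (hcard : Nat.card G = 7920 * v)
    (h : v = 2 ∨ v = 3 ∨ v = 4 ∨ v = 6) : False := by
  haveI : Fintype V := Fintype.ofFinite _
  rcases h with r | r | r | r <;> subst r
  · exact five_dead H K (hcard.trans (by norm_num)) (Or.inl ⟨rfl, ⟨1, hv⟩⟩) lists_ok.1 lists_ok.2.1 five_two
      fun l h => by simp at h
  · exact five_dead H K (hcard.trans (by norm_num)) (Or.inr ⟨rfl, ⟨1, hv⟩⟩) lists_ok.2.2.2.2.2.2.1
      lists_ok.2.2.2.2.2.2.2.1 five_three fun l h => ⟨⟨1, hv⟩, h⟩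
  · exact five_dead H K (hcard.trans (by norm_num)) (Or.inl ⟨rfl, ⟨2, hv⟩⟩) lists_ok.2.2.1 lists_ok.2.2.2.1 five_four
      fun l h => by simp at h
  · exact five_dead H K (hcard.trans (by norm_num)) (Or.inl ⟨rfl, ⟨3, hv⟩⟩) lists_ok.2.2.2.2.1 lists_ok.2.2.2.2.2.1
      five_six fun l h => ⟨⟨2, hv⟩, h⟩

end Cfsg.Agent.M12Graph
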