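import Cfsg.Agent.Lib.Solvable.Coprime
import Cfsg.Agent.Lib.Small.Twentyone
import Cfsg.Agent.Lib.M12Uniq.SameCounts
import Cfsg.Agent.Lib.Char.ItoPSolvable
import Cfsg.Agent.Lib.Char.DegreeOneP
import Cfsg.Prelude.Def_DegreeGraph

/-!
In a group of order 95040 without a normal Sylow 11-subgroup the elements of order eleven generate a
perfect normal subgroup that is simple modulo its centre.
-/

set_option linter.unusedSectionVars false
set_option linter.style.haveILetI false

namespace Cfsg.Agent.M12Graph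

open Cfsg

open scoped commutatorElement

variable {G : Type*} [Group G] [Finite G] (hG : Nat.card G = 95040)

include hG

/-- An element of order eleven centralizes what it normalizes, if the order is prime to eleven. -/
theorem centralizes {x : G} (hx : orderOf x = 11) {N : Subgroup G}
    (hxN : x ∈ Subgroup.normalizer (N : Set G)) (h11 : ¬ 11 ∣ Nat.card N) :
    ∀ n ∈ N, Commute x n := by
  classical
  haveI : Fact (Nat.Prime 11) := ⟨by norm_num⟩
  have hd : Nat.card N ∣ 8640 :=
    (((by norm_num : Nat.Prime 11).coprime_iff_not_dvd.2 h11).symm).dvd_of_dvd_mul_left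
      (show Nat.card N ∣ 11 * 8640 from (hG ▸ N.card_subgroup_dvd_card : Nat.card N ∣ 95040))
  set K := N ⊓ Subgroup.centralizer ({x} : Set G) with hK
  have key : Nat.card N ∣ Nat.card K := by
    rw [Nat.dvd_iff_prime_pow_dvd_dvd]
    intro q k hq hqk
    haveI : Fact q.Prime := ⟨hq⟩
    obtain ⟨R, hR⟩ := CoprimeAct.exists_invariant_sylow (A := Subgroup.zpowers x) (K := N)
      (Subgroup.zpowers_le.2 hxN)
      (by rw [Nat.card_zpowers, hx]; exact (by norm_num : Nat.Prime 11).coprime_iff_not_dvd.2 h11)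
      (Or.inl (by infer_instance)) q
    set T := (R : Subgroup N).map N.subtype with hT
    have hTc : Nat.card T = q ^ (Nat.card N).factorization q := by
      rw [hT, Nat.card_congr
        (Subgroup.equivMapOfInjective _ N.subtype N.subtype_injective).symm.toEquiv,
        R.card_eq_multiplicity]
    set j := (Nat.card N).factorization q
    refine (pow_dvd_pow q ((hq.pow_dvd_iff_le_factorization Nat.card_pos.ne').1 hqk)).trans ?_
    rw [← hTc]
    refine Subgroup.card_dvd_of_le (le_inf (Subgroup.map_subtype_le _) ?_)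
    letI act : MulAction (Subgroup.zpowers x) T :=
      { smul := fun c r => ⟨(c : G) * r.1 * (c : G)⁻¹,
          (Subgroup.mem_normalizer_iff.1 (hR c.2) r.1).1 r.2⟩
        one_smul := fun g => Subtype.ext (show (1 : G) * g.1 * (1 : G)⁻¹ = g.1 by group)
        mul_smul := fun a b g => Subtype.ext (show (a : G) * b * g.1 * ((a : G) * b)⁻¹ =
          (a : G) * ((b : G) * g.1 * (b : G)⁻¹) * (a : G)⁻¹ by group) }
    have hmod := (IsPGroup.of_card (n := 1) (by rw [Nat.card_zpowers, hx, pow_one]) :
      IsPGroup 11 (Subgroup.zpowers x)).card_modEq_card_fixedPoints T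
    have hiff : ∀ r : T, r ∈ MulAction.fixedPoints (Subgroup.zpowers x) T ↔
        (r : G) ∈ Subgroup.centralizer ({x} : Set G) := by
      intro r
      rw [Subgroup.mem_centralizer_singleton_iff]
      constructor
      · intro h
        have e : x * (r : G) * x⁻¹ = r := congrArg Subtype.val (h ⟨x, Subgroup.mem_zpowers x⟩)
        exact (mul_inv_eq_iff_eq_mul.1 e).symm
      · rintro h ⟨c, hc⟩
        obtain ⟨i, rfl⟩ := Subgroup.mem_zpowers_iff.1 hc
        refine Subtype.ext ?_
        show x ^ i * (r : G) * (x ^ i)⁻¹ = r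
        rw [mul_inv_eq_iff_eq_mul]
        exact ((show Commute x (r : G) from h.symm).zpow_left i).eq
    set F := (T ⊓ Subgroup.centralizer ({x} : Set G)) with hF
    have hFc : Nat.card (MulAction.fixedPoints (Subgroup.zpowers x) T) = Nat.card F :=
      Nat.card_congr
        { toFun := fun r => ⟨r.1.1, r.1.2, (hiff r.1).1 r.2⟩
          invFun := fun r => ⟨⟨r.1, r.2.1⟩, (hiff _).2 r.2.2⟩
          left_inv := fun r => rfl
          right_inv := fun r => rfl }
    obtain ⟨i, hi, hFi⟩ := (Nat.dvd_prime_pow hq).1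
      (hTc ▸ Subgroup.card_dvd_of_le (inf_le_left : F ≤ T))
    rw [hTc, hFc, hFi, Nat.ModEq] at hmod
    have hji : i = j := by
      by_contra hne
      have hqd : q ∣ 8640 := ((dvd_pow_self q (show j ≠ 0 by omega)).trans
        (Nat.ordProj_dvd _ _)).trans hd
      have hjd : q ^ j ∣ 8640 := (Nat.ordProj_dvd _ _).trans hd
      have hq' : q = 2 ∨ q = 3 ∨ q = 5 := by
        rw [show (8640 : ℕ) = 2 ^ 6 * 3 ^ 3 * 5 by norm_num] at hqd
        rcases hq.dvd_mul.1 hqd with h | h
        · rcases hq.dvd_mul.1 h with h' | h'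
          · exact Or.inl ((Nat.prime_dvd_prime_iff_eq hq Nat.prime_two).1 (hq.dvd_of_dvd_pow h'))
          · exact Or.inr (Or.inl
              ((Nat.prime_dvd_prime_iff_eq hq Nat.prime_three).1 (hq.dvd_of_dvd_pow h')))
        · exact Or.inr (Or.inr ((Nat.prime_dvd_prime_iff_eq hq (by norm_num)).1 h))
      rcases hq' with rfl | rfl | rfl
      · have hj : j ≤ 6 := by_contra fun h =>
          absurd ((pow_dvd_pow 2 (show 7 ≤ j by omega)).trans hjd) (by norm_num)
        interval_cases j <;> interval_cases i <;> omega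
      · have hj : j ≤ 3 := by_contra fun h =>
          absurd ((pow_dvd_pow 3 (show 4 ≤ j by omega)).trans hjd) (by norm_num)
        interval_cases j <;> interval_cases i <;> omega
      · have hj : j ≤ 1 := by_contra fun h =>
          absurd ((pow_dvd_pow 5 (show 2 ≤ j by omega)).trans hjd) (by norm_num)
        interval_cases j <;> interval_cases i <;> omega
    have hFT : F = T := Subgroup.eq_of_le_of_card_ge inf_le_left (by rw [hFi, hTc, hji])
    exact hFT.ge.trans inf_le_right
  have hKN : K = N := Subgroup.eq_of_le_of_card_ge inf_le_left (Nat.le_of_dvd Nat.card_pos key)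
  intro n hn
  exact (Subgroup.mem_centralizer_singleton_iff.1 (hKN.ge hn).2).symm

omit hG in
/-- The subgroup generated by the elements of order eleven. -/
def gen11 (G : Type*) [Group G] : Subgroup G := Subgroup.closure {g : G | orderOf g = 11}

omit hG in
theorem gen11_normal : (gen11 G).Normal := by
  refine ⟨fun n hn g => ?_⟩
  have h : gen11 G ≤ (gen11 G).comap (MulAut.conj g).toMonoidHom := by
    refine (Subgroup.closure_le _).2 ?_
    intro x hx
    refine Subgroup.subset_closure ?_
    show orderOf (MulAut.conj g x) = 11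
    rwa [MulEquiv.orderOf_eq]
  simpa using h hn

omit hG in
theorem mem_gen11 {g : G} (h : orderOf g = 11) : g ∈ gen11 G := Subgroup.subset_closure h

theorem not_eleven_index {N : Subgroup G} (h : 11 ∣ Nat.card N) : ¬ 11 ∣ N.index := fun hd => by
  have := Nat.mul_dvd_mul hd h
  rw [N.index_mul_card, hG] at this
  norm_num at this

theorem gen11_le {N : Subgroup G} [N.Normal] (h : 11 ∣ Nat.card N) : gen11 G ≤ N := by
  refine (Subgroup.closure_le _).2 ?_
  intro x hx
  rw [SetLike.mem_coe, ← QuotientGroup.eq_one_iff]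
  have h1 : orderOf (QuotientGroup.mk' N x) ∣ 11 := hx ▸ orderOf_map_dvd _ x
  have h2 : orderOf (QuotientGroup.mk' N x) ∣ N.index := by
    rw [Subgroup.index_eq_card]; exact orderOf_dvd_natCard _
  exact orderOf_eq_one_iff.1 (Nat.eq_one_of_dvd_coprimes
    ((by norm_num : Nat.Prime 11).coprime_iff_not_dvd.2 (not_eleven_index hG h)) h1 h2)

theorem card_gen11 : 11 ∣ Nat.card (gen11 G) := by
  haveI : Fact (Nat.Prime 11) := ⟨by norm_num⟩
  obtain ⟨x, hx⟩ := exists_prime_orderOf_dvd_card' (G := G) 11 (by rw [hG]; norm_num)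
  exact hx ▸ Subgroup.orderOf_dvd_natCard _ (mem_gen11 hx)

/-- A group with a degree divisible by eleven. -/
structure Deg (G : Type*) [Group G] : Prop where
  fiftyFive : ∃ d ∈ Cfsg.charDegrees G, 55 ∣ d
  thirtyThree : ∃ d ∈ Cfsg.charDegrees G, 33 ∣ d

variable (D : Deg G)

include D

theorem not_normal_eleven (N : Subgroup G) [N.Normal] : Nat.card N ≠ 11 := by
  classical
  intro h
  haveI : Fintype G := Fintype.ofFinite G
  haveI : Fact (Nat.Prime 11) := ⟨by norm_num⟩
  obtain ⟨d, ⟨χ, rfl⟩, hd⟩ := D.fiftyFive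
  haveI : IsCyclic N := isCyclic_of_prime_card h
  have hc : IsMulCommutative N := IsCyclic.commGroup (α := N) |>.mul_comm |> fun h => ⟨⟨h⟩⟩
  have h2 := (Nat.dvd_trans (by norm_num) hd : 11 ∣ _).trans
    (Char.Ito.degree_dvd_index N hc χ)
  exact not_eleven_index hG (dvd_of_eq h.symm) h2

/-- No element of order eleven commutes with all of them. -/
theorem exists_not_commute {x : G} (hx : orderOf x = 11) :
    ∃ y : G, orderOf y = 11 ∧ ¬ Commute x y := by
  classical
  by_contra h
  push Not at h
  haveI : Fact (Nat.Prime 11) := ⟨by norm_num⟩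
  have hle : ∀ y : G, orderOf y = 11 → y ∈ Subgroup.zpowers x := by
    intro y hy
    by_contra hyx
    have hcard : ∀ z : G, orderOf z = 11 → Nat.card (Subgroup.zpowers z) = 11 ^ 1 := fun z hz => by
      rw [Nat.card_zpowers, hz, pow_one]
    have hxy : Subgroup.zpowers x ≤ Subgroup.normalizer (Subgroup.zpowers y : Set G) := by
      rw [Subgroup.zpowers_le]
      refine Subgroup.centralizer_le_normalizer _ (Subgroup.mem_centralizer_iff.2 ?_)
      intro z hz
      obtain ⟨i, rfl⟩ := Subgroup.mem_zpowers_iff.1 hz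
      exact (((h y hy).symm).zpow_left i).eq
    have hp := (IsPGroup.of_card (hcard x hx)).to_sup_of_normal_right'
      (IsPGroup.of_card (hcard y hy)) hxy
    obtain ⟨P, hP⟩ := hp.exists_le_sylow
    have hPc : Nat.card (P : Subgroup G) = 11 := by
      rw [Small.sylow_card (k := 1) (m := 8640) (by rw [hG]; norm_num) (by norm_num) P, pow_one]
    have hPx : Subgroup.zpowers x = (P : Subgroup G) :=
      Subgroup.eq_of_le_of_card_ge (le_sup_left.trans hP) (by rw [hcard x hx, hPc, pow_one])
    exact hyx (hPx.ge (hP (Subgroup.mem_sup_right (Subgroup.mem_zpowers y))))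
  have hL : gen11 G = Subgroup.zpowers x := le_antisymm (by
    refine (Subgroup.closure_le _).2 ?_; exact hle) (Subgroup.zpowers_le.2 (mem_gen11 hx))
  haveI := gen11_normal (G := G)
  exact not_normal_eleven hG D (gen11 G) (by rw [hL, Nat.card_zpowers, hx])

theorem center_prime_to : ¬ 11 ∣ Nat.card (Subgroup.center (gen11 G)) := by
  intro h
  haveI : Fact (Nat.Prime 11) := ⟨by norm_num⟩
  obtain ⟨⟨⟨x, hxL⟩, hxZ⟩, hx⟩ :=
    exists_prime_orderOf_dvd_card' (G := Subgroup.center (gen11 G)) 11 h
  rw [Subgroup.orderOf_mk, Subgroup.orderOf_mk] at hx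
  obtain ⟨y, hy, hxy⟩ := exists_not_commute hG D hx
  exact hxy (congrArg Subtype.val (Subgroup.mem_center_iff.1 hxZ ⟨y, mem_gen11 hy⟩)).symm

/-- A normal subgroup of order prime to eleven is centralized. -/
theorem le_center {K : Subgroup (gen11 G)} [hK : K.Normal] (h : ¬ 11 ∣ Nat.card K) :
    K ≤ Subgroup.center (gen11 G) := by
  intro k hk
  rw [Subgroup.mem_center_iff]
  intro g
  have hle : gen11 G ≤ Subgroup.centralizer ({(k : G)} : Set G) := by
    refine (Subgroup.closure_le _).2 ?_
    intro x hx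
    rw [SetLike.mem_coe, Subgroup.mem_centralizer_singleton_iff]
    have hxL := mem_gen11 (G := G) hx
    have hn : x ∈ Subgroup.normalizer ((K.map (gen11 G).subtype : Subgroup G) : Set G) := by
      refine Subgroup.mem_normalizer_iff.2 fun y => ⟨?_, ?_⟩
      · rintro ⟨z, hz, rfl⟩
        exact ⟨_, hK.conj_mem z hz ⟨x, hxL⟩, rfl⟩
      · rintro ⟨z, hz, hzy⟩
        refine ⟨⟨x, hxL⟩⁻¹ * z * ⟨x, hxL⟩, by simpa using hK.conj_mem z hz (⟨x, hxL⟩⁻¹), ?_⟩
        show x⁻¹ * (z : G) * x = y
        rw [show (z : G) = x * y * x⁻¹ from hzy]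
        group
    have hc := centralizes hG hx hn (by
      rwa [Nat.card_congr
        (Subgroup.equivMapOfInjective K _ (gen11 G).subtype_injective).symm.toEquiv])
    exact (hc _ ⟨k, hk, rfl⟩).eq
  exact Subtype.ext (Subgroup.mem_centralizer_singleton_iff.1 (hle g.2))

theorem eq_top_of_eleven {K : Subgroup (gen11 G)} [K.Normal] (h : 11 ∣ Nat.card K) : K = ⊤ := by
  have hidx : ¬ 11 ∣ K.index := fun hd => by
    have h1 := Nat.mul_dvd_mul hd h
    rw [K.index_mul_card] at h1
    have := h1.trans (gen11 G).card_subgroup_dvd_card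
    rw [hG] at this
    norm_num at this
  rw [eq_top_iff]
  have hle : gen11 G ≤ K.map (gen11 G).subtype := by
    refine (Subgroup.closure_le _).2 ?_
    intro x hx
    refine ⟨⟨x, mem_gen11 hx⟩, ?_, rfl⟩
    rw [SetLike.mem_coe, ← QuotientGroup.eq_one_iff]
    have h1 : orderOf (QuotientGroup.mk' K ⟨x, mem_gen11 hx⟩) ∣ 11 := by
      refine (orderOf_map_dvd _ _).trans ?_
      rw [Subgroup.orderOf_mk, hx]
    have h2 : orderOf (QuotientGroup.mk' K ⟨x, mem_gen11 hx⟩) ∣ K.index := by
      rw [Subgroup.index_eq_card]; exact orderOf_dvd_natCard _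
    exact orderOf_eq_one_iff.1 (Nat.eq_one_of_dvd_coprimes
      ((by norm_num : Nat.Prime 11).coprime_iff_not_dvd.2 hidx) h1 h2)
  intro g _
  obtain ⟨k, hk, hkg⟩ := hle g.2
  rwa [← (gen11 G).subtype_injective hkg]

theorem perfect : commutator (gen11 G) = ⊤ := by
  by_contra h
  have hc : ¬ 11 ∣ Nat.card (commutator (gen11 G)) := fun hd => h (eq_top_of_eleven hG D hd)
  have hcen := le_center hG D hc
  haveI : Fact (Nat.Prime 11) := ⟨by norm_num⟩
  obtain ⟨x, hx⟩ := exists_prime_orderOf_dvd_card' (G := G) 11 (by rw [hG]; norm_num)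
  obtain ⟨y, hy, hxy⟩ := exists_not_commute hG D hx
  set x' : gen11 G := ⟨x, mem_gen11 hx⟩ with hx'
  set y' : gen11 G := ⟨y, mem_gen11 hy⟩
  set c := ⁅y', x'⁆ with hc'
  have hcm : c ∈ commutator (gen11 G) :=
    Subgroup.commutator_mem_commutator (Subgroup.mem_top _) (Subgroup.mem_top _)
  have hcx : Commute c x' := ((Subgroup.mem_center_iff.1 (hcen hcm)) x').symm
  have hxe : y' * x' * y'⁻¹ = c * x' := by rw [hc', commutatorElement_def]; group
  have hx11 : x' ^ 11 = 1 := by
    rw [← hx, ← Subgroup.orderOf_mk x (mem_gen11 hx)]; exact pow_orderOf_eq_one x'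
  have hc11 : c ^ 11 = 1 := by
    have h1 : (c * x') ^ 11 = 1 := by rw [← hxe, conj_pow, hx11, mul_one, mul_inv_cancel]
    rwa [hcx.mul_pow, hx11, mul_one] at h1
  have hc1 : c = 1 := orderOf_eq_one_iff.1 (Nat.eq_one_of_dvd_coprimes
    ((by norm_num : Nat.Prime 11).coprime_iff_not_dvd.2 hc) (orderOf_dvd_of_pow_eq_one hc11)
    (Subgroup.orderOf_dvd_natCard _ hcm))
  rw [hc1, one_mul, mul_inv_eq_iff_eq_mul] at hxe
  exact hxy (congrArg Subtype.val hxe).symm

theorem center_ne_top : Subgroup.center (gen11 G) ≠ ⊤ := fun h => by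
  have := center_prime_to hG D
  rw [h, Subgroup.card_top] at this
  exact this (card_gen11 hG)

theorem simple_quotient : IsSimpleGroup (gen11 G ⧸ Subgroup.center (gen11 G)) := by
  haveI : Nontrivial (gen11 G ⧸ Subgroup.center (gen11 G)) :=
    QuotientGroup.nontrivial_iff.2 (center_ne_top hG D)
  refine ⟨fun K hK => ?_⟩
  haveI := hK
  set N := K.comap (QuotientGroup.mk' (Subgroup.center (gen11 G))) with hN
  haveI : N.Normal := hK.comap _
  have hKm : K = N.map (QuotientGroup.mk' (Subgroup.center (gen11 G))) :=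
    (Subgroup.map_comap_eq_self_of_surjective (QuotientGroup.mk'_surjective _) K).symm
  by_cases h : 11 ∣ Nat.card N
  · right
    rw [hKm, eq_top_of_eleven hG D h,
      Subgroup.map_top_of_surjective _ (QuotientGroup.mk'_surjective _)]
  · left
    rw [hKm, eq_bot_iff, Subgroup.map_le_iff_le_comap, MonoidHom.comap_bot,
      QuotientGroup.ker_mk']
    exact le_center hG D h

theorem quotient_facts :
    Nat.card (gen11 G ⧸ Subgroup.center (gen11 G)) ∣ 95040 ∧
      11 ∣ Nat.card (gen11 G ⧸ Subgroup.center (gen11 G)) ∧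
      ¬ (Nat.card (gen11 G ⧸ Subgroup.center (gen11 G))).Prime := by
  have hmul := (Subgroup.center (gen11 G)).card_eq_card_quotient_mul_card_subgroup
  refine ⟨(Dvd.intro _ hmul.symm).trans (hG ▸ (gen11 G).card_subgroup_dvd_card), ?_, ?_⟩
  · exact ((Nat.Prime.dvd_mul (by norm_num : Nat.Prime 11)).1
      (hmul ▸ card_gen11 hG)).resolve_right (center_prime_to hG D)
  · intro hp
    haveI : Fact (Nat.card (gen11 G ⧸ Subgroup.center (gen11 G))).Prime := ⟨hp⟩
    haveI : IsCyclic (gen11 G ⧸ Subgroup.center (gen11 G)) := isCyclic_of_prime_card rfl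
    have hle : commutator (gen11 G) ≤ Subgroup.center (gen11 G) := by
      rw [commutator_def, Subgroup.commutator_le]
      intro a _ b _
      rw [← QuotientGroup.eq_one_iff]
      show QuotientGroup.mk' _ ⁅a, b⁆ = 1
      rw [map_commutatorElement, commutatorElement_eq_one_iff_commute]
      exact IsCyclic.commGroup.mul_comm _ _
    rw [perfect hG D] at hle
    exact center_ne_top hG D (top_le_iff.1 hle)

end Cfsg.Agent.M12Graph
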