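import Cfsg.Agent.Lib.M22Uniq.Search
import Cfsg.Agent.Lib.M12Uniq.ElevenNormalizer

/-!
The finite searches for the simple groups of order dividing 95040.
-/

namespace Cfsg.Agent.M12Graph

open Cfsg.Agent.M12Uniq (signDeg)

/-- All multisets with `k` members from a list pass the test. -/
def allMulti (P : List ℕ → Bool) : ℕ → List ℕ → List ℕ → Bool
  | 0, _, acc => P acc
  | k + 1, opts, acc => opts.tails.all fun tl => match tl with
    | [] => true
    | o :: _ => allMulti P k tl (o :: acc)

theorem allMulti_sound {P : List ℕ → Bool} : ∀ {k : ℕ} {opts acc : List ℕ},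
    allMulti P k opts acc = true → ∀ s : Multiset ℕ, s.card = k → (∀ x ∈ s, x ∈ opts) →
    ∃ l : List ℕ, (↑l : Multiset ℕ) = s + ↑acc ∧ P l = true := by
  intro k
  induction k with
  | zero =>
    intro opts acc h s hs _
    exact ⟨acc, by rw [Multiset.card_eq_zero.1 hs, zero_add], h⟩
  | succ k ih =>
    intro opts acc h s hs hsub
    obtain ⟨tl, htl, o, r, rfl, ho, hin⟩ := M22Uniq.exists_first hsub
      (fun h0 => by rw [h0] at hs; simp at hs)
    obtain ⟨s', rfl⟩ := Multiset.exists_cons_of_mem ho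
    have h1 := List.all_eq_true.1 h _ htl
    obtain ⟨l, hl, hP⟩ := ih h1 s' (by simpa using hs) fun x hx =>
      hin x (Multiset.mem_cons_of_mem hx)
    refine ⟨l, ?_, hP⟩
    rw [hl, ← Multiset.cons_coe, Multiset.add_cons, Multiset.cons_add]

/-- The signed sum of a list of degrees, with the principal character. -/
def listTotal (l : List ℕ) : ℤ := 1 + (l.map fun d => signDeg d * (d : ℤ)).sum

/-- The sum of the squares. -/
def listSq (l : List ℕ) : ℕ := 1 + (l.map fun d => d * d).sum

/-- The test of a pattern with two exceptional characters. -/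
def fiveTest (N : ℕ) (T : List ℕ) (good : List ℕ → Bool) (l : List ℕ) : Bool :=
  !(T.contains (listTotal l).natAbs) ||
  !(decide (((listTotal l).natAbs : ℤ) % 11 = (5 * (if 0 < listTotal l then 1 else -1)) % 11)) ||
  !(Nat.ble (listSq l + 2 * ((listTotal l).natAbs * (listTotal l).natAbs)) N) || good l

/-- The test of a pattern with a single family. -/
def tenTest (N : ℕ) (good : List ℕ → Bool) (l : List ℕ) : Bool :=
  !(decide (listTotal l = 0)) || !(Nat.ble (listSq l) N) || good l

/-- The membership tests for the two lists of degrees. -/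
def degOK (N lo : ℕ) (r : ℕ) (L : List ℕ) : Bool :=
  (List.range 309).all fun d => !(Nat.ble lo d) || !(Nat.ble (d * d) N) || !(Nat.beq (N % d) 0) ||
    !(Nat.beq (d % 11) r || Nat.beq (d % 11) (11 - r)) || L.contains d

theorem degOK_sound {N lo r : ℕ} {L : List ℕ} (h : degOK N lo r L = true) {d : ℕ} (hlo : lo ≤ d)
    (hsq : d * d ≤ N) (hN : N ≤ 95040) (hdvd : d ∣ N) (hr : d % 11 = r ∨ d % 11 = 11 - r) :
    d ∈ L := by
  have hd : d < 309 := by
    by_contra hc
    have : 309 * 309 ≤ d * d := Nat.mul_le_mul (by omega) (by omega)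
    omega
  have h := List.all_eq_true.1 h d (List.mem_range.2 hd)
  simp only [Bool.or_eq_true, Bool.not_eq_true', ← Bool.not_eq_true, Nat.beq_eq, Nat.ble_eq,
    List.contains_iff_mem] at h
  rw [Nat.dvd_iff_mod_eq_zero] at hdvd
  tauto

theorem lists_ok :
    degOK 15840 23 1 [32, 45, 120] = true ∧ degOK 15840 23 5 [60, 72] = true ∧
    degOK 31680 23 1 [32, 45, 120, 144] = true ∧ degOK 31680 23 5 [60, 72, 160] = true ∧
    degOK 47520 23 1 [32, 45, 54, 120, 144] = true ∧ degOK 47520 23 5 [27, 60, 72, 160] = true ∧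
    degOK 23760 11 1 [12, 45, 54, 120, 144] = true ∧ degOK 23760 11 5 [16, 27, 60, 72] = true ∧
    degOK 47520 11 1 [12, 32, 45, 54, 120, 144] = true ∧ degOK 15840 2 1 [10, 12, 32, 45, 120] = true ∧
    degOK 1320 2 1 [10, 12] = true := by
  decide +kernel

theorem five_two : allMulti (fiveTest 15840 [60, 72] fun _ => false) 4 [32, 45, 120] [] = true := by
  decide +kernel

theorem five_four :
    allMulti (fiveTest 31680 [60, 72, 160] fun _ => false) 4 [32, 45, 120, 144] [] = true := by
  decide +kernel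

theorem ten_two : allMulti (tenTest 31680 fun _ => false) 10 [32, 45, 120, 144] [] = true := by
  decide +kernel

theorem ten_twelve : allMulti (tenTest 1320 fun _ => false) 10 [10, 12] [] = true := by
  decide +kernel

/-- The squared norms allowed at an element of order three. -/
def norms3 (i d : ℕ) : List ℤ :=
  (List.range (d / 11 + 1)).flatMap fun p => (List.range (d / 11 + 1 - p)).filterMap fun (q : ℕ) =>
    let a : ℤ := (d : ℤ) - 11 * (p : ℤ) - 22 * (q : ℤ)
    let b : ℤ := 11 * ((p : ℤ) - (q : ℤ))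
    if Nat.blt 0 (Nat.add p q) && decide (((i : ℤ) * (2 * a - b)) % (d : ℤ) = 0) &&
      decide (((i : ℤ) * (-a - b)) % (d : ℤ) = 0) then some (a * a - a * b + b * b) else none

theorem mem_norms3 {i d p q : ℕ} {a b : ℤ} (hpq : 0 < p + q) (hle : 11 * (p + q) ≤ d)
    (ha : a = (d : ℤ) - 11 * (p : ℤ) - 22 * (q : ℤ)) (hb : b = 11 * ((p : ℤ) - q))
    (h1 : (d : ℤ) ∣ (i : ℤ) * (2 * a - b)) (h2 : (d : ℤ) ∣ (i : ℤ) * (-a - b)) :
    a * a - a * b + b * b ∈ norms3 i d := by
  subst ha hb
  refine List.mem_flatMap.2 ⟨p, List.mem_range.2 (by omega),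
    List.mem_filterMap.2 ⟨q, List.mem_range.2 (by omega), ?_⟩⟩
  rw [if_pos]
  simp only [Bool.and_eq_true, decide_eq_true_eq, Nat.blt_eq]
  exact ⟨⟨hpq, Int.emod_eq_zero_of_dvd h1⟩, Int.emod_eq_zero_of_dvd h2⟩

/-- No choice of norms fits in the centralizer. -/
def noFit (i C : ℕ) : List ℕ → ℤ → Bool
  | [], acc => decide ((C : ℤ) < acc)
  | d :: ds, acc => decide ((C : ℤ) < acc) || (norms3 i d).all fun n => noFit i C ds (acc + n)

/-- No centralizer order fits. -/
def threeDead (N : ℕ) (ds : List ℕ) : Bool :=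
  (List.range (N / 33 + 1)).all fun i => Nat.beq i 0 || !(Nat.beq (N % i) 0) ||
    !(Nat.beq ((N / i) % 33) 0) || noFit i (N / i) ds 1

/-- The test of a pattern with an element of order three centralizing the Sylow subgroup. -/
def fiveThree (N : ℕ) (l : List ℕ) : Bool :=
  threeDead N ((listTotal l).natAbs :: (listTotal l).natAbs :: l)

set_option maxRecDepth 8000 in
theorem five_six : allMulti (fiveTest 47520 [27, 60, 72, 160] (fiveThree 47520))
    4 [32, 45, 54, 120, 144] [] = true := by
  decide +kernel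

set_option maxRecDepth 8000 in
theorem five_three : allMulti (fiveTest 23760 [16, 27, 60, 72] (fiveThree 23760))
    4 [12, 45, 54, 120, 144] [] = true := by
  decide +kernel

set_option maxRecDepth 8000 in
theorem ten_three : allMulti (tenTest 47520 (threeDead 47520))
    10 [12, 32, 45, 54, 120, 144] [] = true := by
  decide +kernel

theorem norms3_nonneg {i d : ℕ} {n : ℤ} (h : n ∈ norms3 i d) : 0 ≤ n := by
  obtain ⟨p, -, hp⟩ := List.mem_flatMap.1 h
  obtain ⟨q, -, hq⟩ := List.mem_filterMap.1 hp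
  simp only [Option.ite_none_right_eq_some, Option.some.injEq] at hq
  rw [← hq.2]
  nlinarith [sq_nonneg ((d : ℤ) - 11 * (p : ℤ) - 22 * (q : ℤ) - 11 * ((p : ℤ) - q)),
    sq_nonneg ((d : ℤ) - 11 * (p : ℤ) - 22 * (q : ℤ)), sq_nonneg (11 * ((p : ℤ) - (q : ℤ)))]

theorem noFit_sound {i C : ℕ} : ∀ {l : List (ℕ × ℤ)} {acc : ℤ},
    noFit i C (l.map Prod.fst) acc = true → (∀ x ∈ l, x.2 ∈ norms3 i x.1) →
    (C : ℤ) < acc + (l.map Prod.snd).sum := by
  intro l
  induction l with
  | nil => intro acc h _; simpa [noFit] using h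
  | cons x l ih =>
    intro acc h hl
    simp only [List.map_cons, List.sum_cons]
    simp only [List.map_cons, noFit, Bool.or_eq_true, decide_eq_true_eq] at h
    rcases h with h | h
    · have h0 : 0 ≤ (l.map Prod.snd).sum := List.sum_nonneg fun y hy => by
        obtain ⟨z, hz, rfl⟩ := List.mem_map.1 hy
        exact norms3_nonneg (hl z (List.mem_cons_of_mem _ hz))
      have := norms3_nonneg (hl x List.mem_cons_self)
      linarith
    · have h1 := List.all_eq_true.1 h x.2 (hl x List.mem_cons_self)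
      have := ih h1 fun y hy => hl y (List.mem_cons_of_mem _ hy)
      linarith

theorem threeDead_sound {N : ℕ} {l : List (ℕ × ℤ)} (h : threeDead N (l.map Prod.fst) = true)
    {i C : ℕ} (hN : i * C = N) (hN0 : 0 < N) (h33 : 33 ∣ C)
    (hl : ∀ x ∈ l, x.2 ∈ norms3 i x.1) : (C : ℤ) < 1 + (l.map Prod.snd).sum := by
  have hi0 : 0 < i := Nat.pos_of_ne_zero fun h0 => by rw [h0, zero_mul] at hN; omega
  have hC : N / i = C := Nat.div_eq_of_eq_mul_right hi0 hN.symm
  have hiN : i ≤ N / 33 := by
    rw [Nat.le_div_iff_mul_le (by norm_num), ← hN]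
    refine Nat.mul_le_mul_left i (Nat.le_of_dvd ?_ h33)
    exact Nat.pos_of_ne_zero fun h0 => by rw [h0, mul_zero] at hN; omega
  have h := List.all_eq_true.1 h i (List.mem_range.2 (by omega))
  simp only [Bool.or_eq_true, Bool.not_eq_true', ← Bool.not_eq_true, Nat.beq_eq, hC] at h
  rcases h with ((h | h) | h) | h
  · omega
  · exact absurd (Nat.mod_eq_zero_of_dvd ⟨C, hN.symm⟩) h
  · exact absurd (Nat.mod_eq_zero_of_dvd h33) h
  · exact noFit_sound h hl

end Cfsg.Agent.M12Graph
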