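import Cfsg.Agent.Lib.M12Graph.Basic
import Cfsg.Agent.Lib.M12Graph.Numeric
import Cfsg.Agent.Lib.M22Uniq.Setup

/-!
The members of the principal block at eleven, and the contradiction from an element of order three
centralizing a Sylow 11-subgroup.
-/

set_option linter.unusedSectionVars false
set_option linter.style.haveILetI false

namespace Cfsg.Agent.M12Graph

open Cfsg Cfsg.Agent.Char Cfsg.Agent.Blocks Cfsg.Agent.CCSylow Cfsg.Agent.DefOne
open Cfsg.Agent.M12Uniq (signDeg)

open scoped ComplexConjugate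

universe u

variable {G : Type u} [Group G] [Fintype G] [IsSimpleGroup G] (H : Hyp G)
  [Fact (Nat.Prime 11)] {P : Sylow 11 G} {V : Subgroup G} {e : ℕ}
  (K : Conf 11 (P : Subgroup G) V (Subgroup.normalizer ((P : Subgroup G) : Set G)) e)
  [Fintype (P : Subgroup G)] [Fintype V] [Fintype (Subgroup.normalizer ((P : Subgroup G) : Set G))]
  [Fintype ((P : Subgroup G) →* ℂˣ)] {M : Ideal AlgInt} [M.IsPrime] (hM : IsPModular 11 M)
  {eb : ℕ} {X Y : Finset (IrrCharacter G)} {δ : ℤ} {sg : IrrCharacter G → ℤ}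
  (F : Families K (trivB V) eb X Y δ sg)

include H K hM F

omit H in
theorem mem_block {χ : IrrCharacter G} (h : χ ∈ X ∨ χ ∈ Y) : χ ∈ principalBlock M G := by
  rw [principal_eq K hM F]; exact h

/-- A nonprincipal member with degree congruent to a sign. -/
theorem signed_member {χ : IrrCharacter G} (hne : χ ≠ principal G) {c : ℤ} (hc : c = 1 ∨ c = -1)
    (hmod : (charDegree (χ : G → ℂ) : ℤ) ≡ c [ZMOD 11]) :
    (charDegree (χ : G → ℂ) % 11 = 1 ∨ charDegree (χ : G → ℂ) % 11 = 11 - 1) ∧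
      c = signDeg (charDegree (χ : G → ℂ)) ∧ 2 ≤ charDegree (χ : G → ℂ) := by
  have h0 := charDegree_pos χ
  have h1 : charDegree (χ : G → ℂ) ≠ 1 := fun h => hne (H.eq_principal h)
  rw [Int.ModEq] at hmod
  refine ⟨?_, ?_, by omega⟩
  · rcases hc with r | r <;> rw [r] at hmod <;> omega
  · rw [signDeg]
    rcases hc with r | r <;> rw [r] at hmod ⊢ <;> split_ifs <;> omega

/-- The bound on the degrees when an involution centralizes `P`. -/
theorem two_bound {χ : IrrCharacter G} (h : χ ∈ X ∨ χ ∈ Y) (hne : χ ≠ principal G)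
    (h2 : 2 ∣ Nat.card V) : 23 ≤ charDegree (χ : G → ℂ) := by
  haveI : Fact (Nat.Prime 2) := ⟨Nat.prime_two⟩
  obtain ⟨w, hw⟩ := exists_prime_orderOf_dvd_card' 2 h2
  have hwo : orderOf (w : G) = 2 := by rw [Subgroup.orderOf_coe, hw]
  obtain ⟨a, ha, h4, hlt⟩ := H.involution_range hne hwo
  have h11 := involution_congr hM K (mem_block K hM F h) hwo ha
  rw [abs_lt] at hlt
  omega

/-- The bound on the degrees when an element of order three centralizes `P`. -/
theorem three_bound {χ : IrrCharacter G} (h : χ ∈ X ∨ χ ∈ Y) (hne : χ ≠ principal G)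
    (h3 : 3 ∣ Nat.card V) : 11 ≤ charDegree (χ : G → ℂ) := by
  haveI : Fact (Nat.Prime 3) := ⟨Nat.prime_three⟩
  obtain ⟨w, hw⟩ := exists_prime_orderOf_dvd_card' 3 h3
  obtain ⟨p, q, h0, hle, -⟩ := three_value hM K H (mem_block K hM F h) hne (w := w)
    (by rw [Subgroup.orderOf_coe, hw])
  omega

/-- The norms of a pattern do not fit. -/
theorem three_kill (h3 : 3 ∣ Nat.card V) {U : Finset (IrrCharacter G)}
    (hU : ∀ χ ∈ U, (χ ∈ X ∨ χ ∈ Y) ∧ χ ≠ principal G) {l : List ℕ}
    (hl : (U.val.map fun χ : IrrCharacter G => charDegree (χ : G → ℂ)) = ↑l)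
    (hdead : threeDead (Nat.card G) l = true) : False := by
  classical
  haveI : Fact (Nat.Prime 3) := ⟨Nat.prime_three⟩
  obtain ⟨w, hw⟩ := exists_prime_orderOf_dvd_card' 3 h3
  have hwo : orderOf (w : G) = 3 := by rw [Subgroup.orderOf_coe, hw]
  choose! p q hpq hle hval using fun χ (hχ : χ ∈ U) =>
    three_value hM K H (mem_block K hM F (hU χ hχ).1) (hU χ hχ).2 hwo
  let A : IrrCharacter G → ℤ := fun χ => (charDegree (χ : G → ℂ) : ℤ) - 11 * p χ - 22 * q χ
  let B : IrrCharacter G → ℤ := fun χ => 11 * ((p χ : ℤ) - q χ)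
  let n : IrrCharacter G → ℤ := fun χ => A χ * A χ - A χ * B χ + B χ * B χ
  set i := (Subgroup.centralizer ({(w : G)} : Set G)).index with hi
  set C := Nat.card (Subgroup.centralizer ({(w : G)} : Set G)) with hC
  have hn : ∀ χ ∈ U, n χ ∈ norms3 i (charDegree (χ : G → ℂ)) := fun χ hχ => by
    obtain ⟨d1, d2⟩ := dvd_three χ (w : G) (hval χ hχ)
    exact mem_norms3 (hpq χ hχ) (hle χ hχ) rfl rfl d1 d2
  obtain ⟨cs, hcs, hcsl⟩ := M11Local.exists_list_map _ _ _ hl
  obtain ⟨y, hy⟩ := exists_ne_one_P K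
  have hy1 : (y : G) ≠ 1 := fun h => hy (Subtype.ext h)
  have hcomm : Commute (y : G) (w : G) := K.D.pv _ y.2 _ w.2
  have h33 : 33 ∣ C := by
    have hmem : (y : G) * w ∈ Subgroup.centralizer ({(w : G)} : Set G) := by
      rw [Subgroup.mem_centralizer_singleton_iff, ← mul_assoc, ← hcomm.eq]
    have := Subgroup.orderOf_dvd_natCard _ hmem
    rwa [hcomm.orderOf_mul_eq_mul_orderOf_of_coprime
      (by rw [orderOf_P K y.2 hy1, hwo]; norm_num), orderOf_P K y.2 hy1, hwo] at this
  have hiC : i * C = Nat.card G := Subgroup.index_mul_card _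
  have hmemU : ∀ χ, χ ∈ cs ↔ χ ∈ U := fun χ => by rw [← Finset.mem_val, ← hcs, Multiset.mem_coe]
  have h := threeDead_sound (l := cs.map fun χ : IrrCharacter G => (charDegree (χ : G → ℂ), n χ))
    (by rw [List.map_map]; simpa [Function.comp_def, hcsl] using hdead) hiC Nat.card_pos h33
    (fun x hx => by
      obtain ⟨χ, hχ, rfl⟩ := List.mem_map.1 hx
      exact hn χ ((hmemU χ).1 hχ))
  have hsum : ((cs.map fun χ : IrrCharacter G => (charDegree (χ : G → ℂ), n χ)).map Prod.snd).sum = ∑ χ ∈ U, n χ := by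
    rw [List.map_map]
    show (cs.map n).sum = (U.val.map n).sum
    rw [← hcs, Multiset.map_coe, Multiset.sum_coe]
  rw [hsum] at h
  have hp : principal G ∉ U := fun h' => (hU _ h').2 rfl
  have hle' := M12Uniq.sum_normSq_le (w : G) (insert (principal G) U)
  rw [Finset.sum_insert hp, Finset.sum_congr rfl fun (χ : IrrCharacter G) hχ => show
      Complex.normSq ((χ : G → ℂ) (w : G)) = ((n χ : ℤ) : ℝ) by
    rw [hval χ hχ]; exact normSq_omega3 _ _, show Complex.normSq ((principal G : G → ℂ) (w : G)) = 1 by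
      simp [principal], ← Int.cast_sum, ← hC] at hle'
  have hle'' : 1 + ∑ χ ∈ U, n χ ≤ (C : ℤ) := by exact_mod_cast hle'
  omega

end Cfsg.Agent.M12Graph
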