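import Cfsg.Agent.Lib.M12Graph.Numeric

/-!
The values of the principal block at an inverting involution when the normaliser at eleven is a
Frobenius group of order 110.
-/

namespace Cfsg.Agent.M12Graph

open Cfsg.Agent.M12Uniq (signDeg)

/-- The partial sums of the search. -/
structure TenState where
  D : ℤ
  L : ℤ
  q : ℕ
  d2 : ℕ
  num : ℤ
  den : ℕ

/-- Adding a member of degree `o.1` with value `o.2`. -/
def TenState.add (st : TenState) (o : ℕ × ℤ) : TenState :=
  ⟨st.D + signDeg o.1 * (o.1 : ℤ), st.L + signDeg o.1 * o.2, st.q + o.2.natAbs * o.2.natAbs,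
    st.d2 + o.1 * o.1, st.num * (o.1 : ℤ) + signDeg o.1 * (o.2 * o.2) * (st.den : ℤ), st.den * o.1⟩

/-- The relations on complete sums, with exactly eleven pairs over the element of order eleven. -/
def TenState.bad (st : TenState) (C : ℕ) : Bool :=
  decide (st.D = 0) && decide (st.L = 0) && Nat.ble st.q C && Nat.ble st.d2 15840 &&
    decide (11 * ((C : ℤ) * C) * (st.den : ℤ) = 15840 * st.num)

/-- There is no choice of `k` members of `opts`. -/
def tenNone (C : ℕ) : ℕ → List (ℕ × ℤ) → TenState → Bool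
  | 0, _, st => !(st.bad C)
  | k + 1, opts, st => opts.tails.all fun tl => match tl with
    | [] => true
    | o :: _ => !(Nat.ble (st.q + o.2.natAbs * o.2.natAbs) C && Nat.ble (st.d2 + o.1 * o.1) 15840) ||
        tenNone C k tl (st.add o)

/-- The possible values for the degree `d`. -/
def tenVals (C d : ℕ) : List (ℕ × ℤ) :=
  (List.range (2 * d + 1)).filterMap fun (j : ℕ) =>
    let a : ℤ := (j : ℤ) - (d : ℤ)
    if decide (((d : ℤ) - a) % 4 = 0) && decide (a * a ≤ (C : ℤ)) && Nat.blt a.natAbs d &&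
      Nat.beq ((15840 / C * a.natAbs) % d) 0 then some (d, a) else none

/-- The candidate members. -/
def tenOpts (C : ℕ) : List (ℕ × ℤ) := ([10, 12, 32, 45, 120] : List ℕ).flatMap (tenVals C)

/-- The possible orders of the centralizer. -/
def tenCents : List ℕ := [10, 20, 30, 40, 60, 80, 90, 120, 160, 180, 240, 360, 480, 720, 1440]

theorem mem_tenCents {C : ℕ} (h : C ∣ 1440) (h10 : 10 ∣ C) : C ∈ tenCents := by
  obtain ⟨c, rfl⟩ := h10
  have hc : c ∣ 144 := (Nat.mul_dvd_mul_iff_left (by norm_num : 0 < 10)).1 h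
  have hm : c ∈ Nat.divisors 144 := Nat.mem_divisors.2 ⟨hc, by norm_num⟩
  rw [show Nat.divisors 144 = {1, 2, 3, 4, 6, 8, 9, 12, 16, 18, 24, 36, 48, 72, 144} by decide] at hm
  simp only [Finset.mem_insert, Finset.mem_singleton] at hm
  rcases hm with r | r | r | r | r | r | r | r | r | r | r | r | r | r | r <;> subst r <;> decide

/-- The initial state: the principal character. -/
def tenStart : TenState := ⟨1, 1, 1, 1, 1, 1⟩

/-- The check at one order of the centralizer. -/
def tenDead (C : ℕ) : Bool := tenNone C 10 (tenOpts C) tenStart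

set_option maxRecDepth 8000 in
theorem ten_dead_small : ([10, 20, 30, 40, 60, 80, 90, 120] : List ℕ).all tenDead = true := by
  decide +kernel

set_option maxRecDepth 8000 in
theorem ten_dead_large : ([160, 180, 240, 360, 480, 720, 1440] : List ℕ).all tenDead = true := by
  decide +kernel

theorem tenDead_of_mem {C : ℕ} (h : C ∈ tenCents) : tenDead C = true := by
  simp only [tenCents, List.mem_cons, List.not_mem_nil, or_false] at h
  have h1 := fun C => List.all_eq_true.1 ten_dead_small C
  have h2 := fun C => List.all_eq_true.1 ten_dead_large C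
  rcases h with r | r | r | r | r | r | r | r | r | r | r | r | r | r | r <;> subst r <;>
    first
      | (refine h1 _ ?_; decide)
      | (refine h2 _ ?_; decide)

/-- A positive answer of the search excludes solutions. -/
theorem tenNone_sound {C : ℕ} : ∀ {k : ℕ} {opts : List (ℕ × ℤ)} {st : TenState},
    tenNone C k opts st = true → 0 < st.den →
    ∀ s : Multiset (ℕ × ℤ), s.card = k → (∀ x ∈ s, x ∈ opts) → (∀ x ∈ s, 0 < x.1) →
    st.D + (s.map fun x => signDeg x.1 * (x.1 : ℤ)).sum = 0 →
    st.L + (s.map fun x => signDeg x.1 * x.2).sum = 0 →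
    (st.q : ℤ) + (s.map fun x => x.2 * x.2).sum ≤ C →
    (st.d2 : ℤ) + (s.map fun x => (x.1 : ℤ) * x.1).sum ≤ 15840 →
    (11 : ℚ) * ((C : ℚ) * C) ≠ 15840 * ((st.num : ℚ) / st.den +
      (s.map fun x => (signDeg x.1 : ℚ) * ((x.2 : ℚ) * x.2) / x.1).sum) := by
  intro k
  induction k with
  | zero =>
    intro opts st h hden s hs hsub hpos hD hL hq hd hn
    rw [Multiset.card_eq_zero.1 hs] at hD hL hq hd hn
    simp only [Multiset.map_zero, Multiset.sum_zero, add_zero] at hD hL hq hd hn
    rw [tenNone, Bool.not_eq_true', ← Bool.not_eq_true] at h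
    apply h
    simp only [TenState.bad, Bool.and_eq_true, decide_eq_true_eq, Nat.ble_eq]
    refine ⟨⟨⟨⟨hD, hL⟩, by exact_mod_cast hq⟩, by exact_mod_cast hd⟩, ?_⟩
    have h2 : (11 : ℚ) * ((C : ℚ) * C) * st.den = 15840 * st.num := by
      rw [hn]; field_simp
    exact_mod_cast h2
  | succ k ih =>
    intro opts st h hden s hs hsub hpos hD hL hq hd hn
    obtain ⟨tl, htl, o, r, rfl, ho, hin⟩ := M22Uniq.exists_first hsub
      (fun h0 => by rw [h0] at hs; simp at hs)
    obtain ⟨s', rfl⟩ := Multiset.exists_cons_of_mem ho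
    have h1 := List.all_eq_true.1 h _ htl
    simp only [Bool.or_eq_true, Bool.not_eq_true', ← Bool.not_eq_true, Bool.and_eq_true, Nat.ble_eq] at h1
    simp only [Multiset.map_cons, Multiset.sum_cons] at hD hL hq hd hn
    have hof : 0 < o.1 := hpos o (by simp)
    have nn3 : (0 : ℤ) ≤ (s'.map fun x : ℕ × ℤ => x.2 * x.2).sum :=
      Multiset.sum_nonneg fun y hy => by
        obtain ⟨x, -, rfl⟩ := Multiset.mem_map.1 hy
        exact mul_self_nonneg _
    have nn4 : (0 : ℤ) ≤ (s'.map fun x : ℕ × ℤ => (x.1 : ℤ) * x.1).sum :=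
      Multiset.sum_nonneg fun y hy => by
        obtain ⟨x, -, rfl⟩ := Multiset.mem_map.1 hy
        exact mul_self_nonneg _
    have eq1 : ((o.2.natAbs * o.2.natAbs : ℕ) : ℤ) = o.2 * o.2 := by
      push_cast; rw [abs_mul_abs_self]
    have eq2 : ((o.1 * o.1 : ℕ) : ℤ) = (o.1 : ℤ) * o.1 := by push_cast; rfl
    rcases h1 with h1 | h1
    · refine h1 ⟨?_, ?_⟩ <;> omega
    · refine ih (st := st.add o) h1 (Nat.mul_pos hden hof) s' (by simpa using hs)
        (fun x hx => hin x (Multiset.mem_cons_of_mem hx))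
        (fun x hx => hpos x (Multiset.mem_cons_of_mem hx)) ?_ ?_ ?_ ?_ ?_
      all_goals simp only [TenState.add]
      · linear_combination hD
      · linear_combination hL
      · rw [Nat.cast_add, eq1]; linarith
      · rw [Nat.cast_add, eq2]; linarith
      · rw [hn]; push_cast
        have : (st.den : ℚ) ≠ 0 := Nat.cast_ne_zero.2 hden.ne'
        field_simp
        ring

theorem mem_tenVals {C d : ℕ} {a : ℤ} (h1 : |a| < d) (h4 : (4 : ℤ) ∣ (d : ℤ) - a)
    (hd : (d : ℤ) ∣ ((15840 / C : ℕ) : ℤ) * a) (hC : a * a ≤ C) : (d, a) ∈ tenVals C d := by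
  rw [abs_lt] at h1
  refine List.mem_filterMap.2 ⟨(a + d).toNat, List.mem_range.2 (by omega), ?_⟩
  have e : (((a + d).toNat : ℕ) : ℤ) - (d : ℤ) = a := by omega
  simp only [e]
  rw [if_pos]
  simp only [Bool.and_eq_true, decide_eq_true_eq, Nat.blt_eq, Nat.beq_eq]
  refine ⟨⟨⟨Int.emod_eq_zero_of_dvd h4, hC⟩, by omega⟩, Nat.mod_eq_zero_of_dvd ?_⟩
  have := Int.natAbs_dvd_natAbs.2 hd
  rwa [Int.natAbs_natCast, Int.natAbs_mul, Int.natAbs_natCast] at this

end Cfsg.Agent.M12Graph
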