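import Cfsg.Agent.Lib.M12Graph.Ten
import Cfsg.Agent.Lib.M12Graph.TenSearch

/-!
The normaliser at eleven is not a Frobenius group of order 110 in a group of order 15840.
-/

set_option linter.unusedSectionVars false
set_option linter.style.haveILetI false

namespace Cfsg.Agent.M12Graph

open Cfsg Cfsg.Agent.Char Cfsg.Agent.Blocks Cfsg.Agent.CCSylow Cfsg.Agent.DefOne
open Cfsg.Agent.M12Uniq (signDeg)

open scoped ComplexConjugate

universe u

variable {G : Type u} [Group G] [Fintype G] [IsSimpleGroup G] (H : Hyp G)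
  [Fact (Nat.Prime 11)] {P : Sylow 11 G} {V : Subgroup G}
  (K : Conf 11 (P : Subgroup G) V (Subgroup.normalizer ((P : Subgroup G) : Set G)) 10)

include H K

set_option maxHeartbeats 1600000 in
theorem ten_one (hV : Nat.card V = 1) (hN : Nat.card G = 15840) : False := by
  classical
  haveI : Fact (Nat.Prime 2) := ⟨Nat.prime_two⟩
  haveI : Fintype (P : Subgroup G) := Fintype.ofFinite _
  haveI : Fintype V := Fintype.ofFinite _
  haveI : Fintype (Subgroup.normalizer ((P : Subgroup G) : Set G)) := Fintype.ofFinite _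
  haveI : Fintype ((P : Subgroup G) →* ℂˣ) := Fintype.ofFinite _
  set N := Subgroup.normalizer ((P : Subgroup G) : Set G) with hNdef
  have hP : Nat.card (P : Subgroup G) = 11 := K.hP
  have hVb : ∀ v ∈ V, v = 1 := fun v hv => Subgroup.mem_bot.1 (Subgroup.card_eq_one.1 hV ▸ hv)
  have hCP : ∀ g, g ∈ Subgroup.centralizer ((P : Subgroup G) : Set G) → g ∈ (P : Subgroup G) := by
    intro g hg
    obtain ⟨r, hr, v, hv, rfl⟩ := (K.hC g).1 hg
    rw [hVb v hv, mul_one]; exact hr
  have hNcard : Nat.card N = 110 := by rw [hNdef, K.D.hcard, K.hP, hV]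
  obtain ⟨y, hy⟩ := exists_ne_one_P K
  have hy1 : (y : G) ≠ 1 := fun h => hy (Subtype.ext h)
  have hyo : orderOf (y : G) = 11 := orderOf_P K y.2 hy1
  obtain ⟨u', hu'⟩ := exists_prime_orderOf_dvd_card' (G := N) 2 (by rw [hNcard]; norm_num)
  set u : G := (u' : G) with hudef
  have huo : orderOf u = 2 := by rw [hudef, Subgroup.orderOf_coe, hu']
  have huu : u * u = 1 := by rw [← pow_two, ← huo, pow_orderOf_eq_one]
  have hPnot : ∀ a ∈ (P : Subgroup G), orderOf a ≠ 2 := fun a ha h => by
    by_cases h1 : a = 1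
    · rw [h1, orderOf_one] at h; omega
    · rw [orderOf_P K ha h1] at h; omega
  -- an involution of the normaliser inverts `P`
  have hinv : ∀ a ∈ N, a * a = 1 → a ∉ (P : Subgroup G) → ∀ r ∈ (P : Subgroup G),
      a * r * a⁻¹ = r⁻¹ := by
    intro a ha haa haP r hr
    obtain ⟨k, hk⟩ := Subgroup.mem_zpowers_iff.1 (mem_zpowers_of_prime_card (G := (P : Subgroup G))
      K.hP (g := y) (g' := ⟨a * y * a⁻¹, K.D.hNP a ha _ y.2⟩) hy)
    have hk' : (y : G) ^ k = a * y * a⁻¹ := by simpa using congrArg Subtype.val hk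
    have hkk : (y : G) ^ (k * k) = y := by
      rw [zpow_mul, hk', conj_zpow, hk', ← mul_assoc, ← mul_assoc, haa, one_mul, mul_assoc,
        ← mul_inv_rev, haa, inv_one, mul_one]
    obtain ⟨j, hj⟩ : (11 : ℤ) ∣ k * k - 1 := by
      have := orderOf_dvd_iff_zpow_eq_one.2 (show (y : G) ^ (k * k - 1) = 1 by
        rw [zpow_sub_one, hkk, mul_inv_cancel])
      rwa [hyo] at this
    have hp11 : Prime (11 : ℤ) := Int.prime_iff_natAbs_prime.2 (by norm_num)
    rcases hp11.dvd_or_dvd (show (11 : ℤ) ∣ (k - 1) * (k + 1) from ⟨j, by linarith⟩) with h | h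
    · exfalso
      have hyk : a * y * a⁻¹ = y := by
        rw [← hk', show k = (k - 1) + 1 by ring, zpow_add_one,
          orderOf_dvd_iff_zpow_eq_one.1 (by rw [hyo]; exact h), one_mul]
      refine haP (hCP a ?_)
      rw [centralizer_P K y.2 hy1, Subgroup.mem_centralizer_singleton_iff, ← mul_inv_eq_iff_eq_mul]
      exact hyk
    · have hyk : a * y * a⁻¹ = (y : G)⁻¹ := by
        rw [← hk', show k = (k + 1) + (-1) by ring, zpow_add,
          orderOf_dvd_iff_zpow_eq_one.1 (by rw [hyo]; exact h), one_mul, zpow_neg_one]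
      obtain ⟨m, hm⟩ := Subgroup.mem_zpowers_iff.1 (mem_zpowers_of_prime_card (G := (P : Subgroup G))
        K.hP (g := y) (g' := ⟨r, hr⟩) hy)
      have hm' : (y : G) ^ m = r := by simpa using congrArg Subtype.val hm
      rw [← hm', ← conj_zpow, hyk, inv_zpow]
  have huP : u ∉ (P : Subgroup G) := fun h => hPnot u h huo
  have huy := hinv u u'.2 huu huP
  have huP2 : ∀ a, (a ∈ N ∧ orderOf a = 2) ↔ u * a ∈ (P : Subgroup G) := by
    intro a
    constructor
    · rintro ⟨ha, hao⟩
      have haa : a * a = 1 := by rw [← pow_two, ← hao, pow_orderOf_eq_one]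
      have hay := hinv a ha haa (fun h => hPnot a h hao) y y.2
      refine hCP _ ?_
      rw [centralizer_P K y.2 hy1, Subgroup.mem_centralizer_singleton_iff, ← mul_inv_eq_iff_eq_mul]
      calc u * a * y * (u * a)⁻¹ = u * (a * y * a⁻¹) * u⁻¹ := by group
        _ = y := by rw [hay, ← conj_inv, huy y y.2, inv_inv]
    · intro h
      have ha : a = u * (u * a) := by rw [← mul_assoc, huu, one_mul]
      have haa : a * a = 1 := by
        have h' := huy _ h
        rw [inv_eq_of_mul_eq_one_left huu] at h'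
        calc a * a = (u * (u * a) * u) * (u * a) := by
              conv_lhs => rw [ha]
              simp only [mul_assoc]
          _ = 1 := by rw [h', inv_mul_cancel]
      have haN : a ∈ N := ha ▸ N.mul_mem u'.2 (Subgroup.le_normalizer h)
      refine ⟨haN, orderOf_eq_prime (by rw [pow_two, haa]) fun h1 => huP ?_⟩
      rwa [h1, mul_one] at h
  have hconj : ∀ a, a ∈ N → orderOf a = 2 → IsConj u a := fun a ha hao =>
    M11Local.isConj_of_odd huu (by rw [← pow_two, ← hao, pow_orderOf_eq_one]) (by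
      by_cases h1 : u * a = 1
      · rw [h1, orderOf_one]; exact odd_one
      · rw [orderOf_P K ((huP2 a).1 ⟨ha, hao⟩) h1]; decide)
  -- the pairs over `y`
  have hord : ∀ a, IsConj u a → orderOf a = 2 := fun a h => by
    obtain ⟨c, rfl⟩ := isConj_iff.1 h
    rw [← MulAut.conj_apply, MulEquiv.orderOf_eq, huo]
  have hpairs : M22Uniq.pairCount u u (y : G) = 11 := by
    rw [M22Uniq.pairCount]
    refine Eq.trans ?_ (show (Finset.univ : Finset (P : Subgroup G)).card = 11 by
      rw [Finset.card_univ, ← Nat.card_eq_fintype_card, hP])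
    symm
    refine Finset.card_bij (fun r _ => (u * (r : G), u * (r : G) * y)) (fun r _ => ?_)
      (fun r _ r' _ h => Subtype.ext (mul_left_cancel (congrArg Prod.fst h))) fun p hp => ?_
    · simp only [Finset.mem_filter, Finset.mem_product, mem_classFinset]
      have hr1 : u * (r : G) ∈ N ∧ orderOf (u * (r : G)) = 2 :=
        (huP2 _).2 (by rw [← mul_assoc, huu, one_mul]; exact r.2)
      have hr2 : u * (r : G) * y ∈ N ∧ orderOf (u * (r : G) * y) = 2 :=
        (huP2 _).2 (by
          rw [← mul_assoc, ← mul_assoc, huu, one_mul]; exact (P : Subgroup G).mul_mem r.2 y.2)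
      refine ⟨⟨hconj _ hr1.1 hr1.2, hconj _ hr2.1 hr2.2⟩, ?_⟩
      rw [← mul_assoc, ← pow_two, ← hr1.2, pow_orderOf_eq_one, one_mul]
    · simp only [Finset.mem_filter, Finset.mem_product, mem_classFinset] at hp
      obtain ⟨⟨ha, hb⟩, hab⟩ := hp
      have haa : p.1 * p.1 = 1 := M12Uniq.sq_of_isConj ha huu
      have hbb : p.2 * p.2 = 1 := M12Uniq.sq_of_isConj hb huu
      have hay : p.1 * y * p.1⁻¹ = (y : G)⁻¹ := by
        rw [← hab, mul_inv_rev, inv_eq_of_mul_eq_one_left haa, inv_eq_of_mul_eq_one_left hbb,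
          ← mul_assoc, haa, one_mul]
      have haN : p.1 ∈ N := K.D.hTI _ y.2 hy1 _ (hay ▸ (P : Subgroup G).inv_mem y.2)
      refine ⟨⟨u * p.1, (huP2 _).1 ⟨haN, hord _ ha⟩⟩, Finset.mem_univ _, Prod.ext ?_ ?_⟩
      · show u * (u * p.1) = p.1
        rw [← mul_assoc, huu, one_mul]
      · show u * (u * p.1) * y = p.2
        rw [← mul_assoc u u, huu, one_mul, ← hab, ← mul_assoc, haa, one_mul]
  -- the centralizer of the involution
  set C := Nat.card (Subgroup.centralizer ({u} : Set G)) with hC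
  have hCG : C ∣ 15840 := hN ▸ Subgroup.card_subgroup_dvd_card _
  have h11C : ¬ 11 ∣ C := by
    intro h
    obtain ⟨z, hz⟩ := exists_prime_orderOf_dvd_card' 11 h
    have hmem : u ∈ Subgroup.centralizer ({(z : G)} : Set G) :=
      Subgroup.mem_centralizer_singleton_iff.2 (Subgroup.mem_centralizer_singleton_iff.1 z.2).symm
    have := Subgroup.orderOf_dvd_natCard _ hmem
    rw [huo, M22Uniq.cent_card K (by rw [Subgroup.orderOf_coe, hz]), hV] at this
    norm_num at this
  set CN := Subgroup.centralizer ({u} : Set G) ⊓ N with hCN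
  have hCNcard : Nat.card CN = 10 := by
    have hle : 110 ≤ Nat.card CN * 11 := by
      rw [← hNcard]
      have hmaps : ∀ g ∈ (Finset.univ : Finset N), u * ((g : G) * u * (g : G)⁻¹) ∈ (P : Subgroup G) :=
        fun g _ => (huP2 _).1 ⟨N.mul_mem (N.mul_mem g.2 u'.2) (N.inv_mem g.2),
          by rw [← MulAut.conj_apply, MulEquiv.orderOf_eq, huo]⟩
      have h := Finset.card_le_mul_card_image (s := (Finset.univ : Finset N))
        (f := fun g : N => u * ((g : G) * u * (g : G)⁻¹)) (Nat.card CN) (fun b hb => ?_)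
      · refine le_trans (le_of_eq ?_) (h.trans (Nat.mul_le_mul_left _ ?_))
        · rw [Nat.card_eq_fintype_card, Finset.card_univ]
        · rw [show (11 : ℕ) = ((Finset.univ : Finset (P : Subgroup G)).image Subtype.val).card by
            rw [Finset.card_image_of_injective _ Subtype.val_injective, Finset.card_univ,
              ← Nat.card_eq_fintype_card, hP]]
          refine Finset.card_le_card fun b hb => ?_
          obtain ⟨g, hg, rfl⟩ := Finset.mem_image.1 hb
          exact Finset.mem_image.2 ⟨⟨_, hmaps g hg⟩, Finset.mem_univ _, rfl⟩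
      · obtain ⟨g₀, -, rfl⟩ := Finset.mem_image.1 hb
        rw [Nat.card_eq_fintype_card, ← Finset.card_univ]
        refine Finset.card_le_card_of_injOn (t := (Finset.univ : Finset CN))
          (fun g : N => if hg : (g₀ : G)⁻¹ * g ∈ CN then ⟨_, hg⟩ else 1) (fun _ _ => by simp) ?_
        intro g hg g' hg' he
        simp only [Finset.coe_filter, Finset.mem_univ, true_and, Set.mem_setOf_eq] at hg hg'
        have hin : ∀ w : N, u * ((w : G) * u * (w : G)⁻¹) = u * ((g₀ : G) * u * (g₀ : G)⁻¹) →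
            (g₀ : G)⁻¹ * w ∈ CN := fun w hw => by
          refine Subgroup.mem_inf.2 ⟨?_, N.mul_mem (N.inv_mem g₀.2) w.2⟩
          rw [Subgroup.mem_centralizer_singleton_iff]
          have h2 := mul_left_cancel hw
          calc (g₀ : G)⁻¹ * w * u = (g₀ : G)⁻¹ * ((w : G) * u * (w : G)⁻¹) * w := by group
            _ = u * ((g₀ : G)⁻¹ * w) := by rw [h2]; group
        simp only [dif_pos (hin g hg), dif_pos (hin g' hg'), Subtype.mk.injEq] at he
        exact Subtype.ext (mul_left_cancel he)
    have hdvd : Nat.card CN ∣ 110 := hNcard ▸ Subgroup.card_dvd_of_le inf_le_right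
    have hdC : Nat.card CN ∣ C := Subgroup.card_dvd_of_le inf_le_left
    have h10 : Nat.card CN ∣ 10 :=
      (Nat.Coprime.dvd_of_dvd_mul_left (k := Nat.card CN) (m := 11) (n := 10)
        (((Fact.out : Nat.Prime 11).coprime_iff_not_dvd.2 fun h => h11C (h.trans hdC)).symm) hdvd)
    have := Nat.le_of_dvd (by norm_num) h10
    omega
  have h10C : 10 ∣ C := hCNcard ▸ Subgroup.card_dvd_of_le inf_le_left
  have hC1440 : C ∣ 1440 := Nat.Coprime.dvd_of_dvd_mul_left
    ((Fact.out : Nat.Prime 11).coprime_iff_not_dvd.2 h11C).symm hCG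
  -- the block
  obtain ⟨M, hM⟩ := exists_isPModular_witness 11
  haveI := IsPModular.isPrime hM
  obtain ⟨eb, X, Y, δ, sg, F⟩ := exists_families K hM (trivB V)
  obtain ⟨hUc, hmem, hrel, hsq, hpU, hsX, hY1, hsY⟩ := ten_data H K hM F
  set U := (X ∪ Y).erase (principal G) with hU
  have hd1 : charDegree (principal G : G → ℂ) = 1 := Cfsg.Agent.CharX.charDegree_one
  have hsgn1 : signDeg 1 = 1 := rfl
  have hu11 : ¬ 11 ∣ orderOf u := by rw [huo]; norm_num
  have hout : ∀ χ : IrrCharacter G, χ ∉ X ∪ Y → (χ : G → ℂ) y = 0 := fun χ h => by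
    have h0 := phi_not_principal K hM (χ := χ)
      (by rw [principal_eq K hM F]; simpa using h) hy
    rw [phi, Finset.sum_eq_single_of_mem (1 : V) (Finset.mem_univ _)
      fun v _ hv => absurd (Subtype.ext (hVb v v.2)) hv] at h0
    rw [hV] at h0
    simpa [trivB] using h0
  have hXy : ∀ χ ∈ X, (χ : G → ℂ) y = (signDeg (charDegree (χ : G → ℂ)) : ℂ) := fun χ h => by
    rw [← hsX χ h, ← phi_principal K hM (mem_block K hM F (Or.inl h)) hy, Families.phi_X K F h hy]
  obtain ⟨θ, hYe⟩ := Finset.card_eq_one.1 hY1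
  have hθY : θ ∈ Y := by rw [hYe]; exact Finset.mem_singleton_self _
  have hallY : ∀ χ ∈ X ∪ Y, (χ : G → ℂ) y = (signDeg (charDegree (χ : G → ℂ)) : ℂ) := by
    intro χ hχ
    rcases Finset.mem_union.1 hχ with h | h
    · exact hXy χ h
    obtain rfl : χ = θ := by rw [hYe] at h; exact Finset.mem_singleton.1 h
    have horth := column_orth_of_not_isConj (g := (y : G)) (h := (1 : G))
      fun hc => hy1 (isConj_one_left.1 hc)
    rw [← Finset.sum_subset (Finset.subset_univ (X ∪ Y)) fun ψ _ hψ => by rw [hout ψ hψ, zero_mul],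
      Finset.sum_union F.disj, hYe, Finset.sum_singleton,
      Finset.sum_congr rfl fun ψ hψ => by rw [hXy ψ hψ]] at horth
    have h1 := hrel 1 (by simp)
    have h1' : ∑ ψ ∈ X ∪ Y, (signDeg (charDegree (ψ : G → ℂ)) : ℂ) * (ψ : G → ℂ) 1 = 0 := by
      rw [← Finset.add_sum_erase _ _ hpU, ← hU, hd1, hsgn1,
        show (principal G : G → ℂ) 1 = 1 from rfl, Int.cast_one, one_mul]
      exact h1
    rw [Finset.sum_union F.disj, hYe, Finset.sum_singleton] at h1'
    simp only [irr_one_eq_charDegree, map_natCast] at horth h1'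
    refine mul_right_cancel₀ (Nat.cast_ne_zero.2 (charDegree_pos χ).ne' :
      (charDegree (χ : G → ℂ) : ℂ) ≠ 0) ?_
    linear_combination horth - h1'
  -- the values at the involution
  choose! a ha h4 hlt using fun χ (hχ : χ ∈ U) => H.involution_range (hmem χ hχ).1.2 huo
  have hp : principal G ∉ U := Finset.notMem_erase _ _
  have hnorm : 1 + ∑ χ ∈ U, a χ * a χ ≤ (C : ℤ) := by
    have h := M12Uniq.sum_sq_le u (insert (principal G) U)
      (fun χ => if χ = principal G then 1 else a χ) fun χ hχ => by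
        rcases Finset.mem_insert.1 hχ with r | r
        · subst r; simp [principal]
        · rw [if_neg (hmem χ r).1.2]; exact ha χ r
    rw [Finset.sum_insert hp, if_pos rfl, Finset.sum_congr rfl fun χ hχ => by
      rw [if_neg (hmem χ hχ).1.2], ← hC] at h
    simpa [pow_two] using h
  have hL : 1 + ∑ χ ∈ U, signDeg (charDegree (χ : G → ℂ)) * a χ = 0 := by
    have h := hrel u hu11
    rw [Finset.sum_congr rfl fun χ hχ => by rw [ha χ hχ]] at h
    exact_mod_cast h
  have hD : 1 + ∑ χ ∈ U, signDeg (charDegree (χ : G → ℂ)) * (charDegree (χ : G → ℂ) : ℤ) = 0 := by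
    have h := hrel 1 (by simp)
    simp only [irr_one_eq_charDegree] at h
    exact_mod_cast h
  have hcount : (11 : ℚ) * ((C : ℚ) * C) = 15840 * (1 + ∑ χ ∈ U,
      (signDeg (charDegree (χ : G → ℂ)) : ℚ) * ((a χ : ℚ) * a χ) / (charDegree (χ : G → ℂ) : ℕ)) := by
    have h := M22Uniq.structure_count' u u (y : G)
    rw [hpairs, hN, ← Finset.sum_subset (Finset.subset_univ (X ∪ Y)) fun χ _ hχ => by
        rw [hout χ hχ, map_zero, mul_zero, zero_div],
      ← Finset.add_sum_erase _ _ hpU, ← hU, Finset.sum_congr rfl fun (χ : IrrCharacter G) hχ => show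
        (χ : G → ℂ) u * (χ : G → ℂ) u * conj ((χ : G → ℂ) y) / (χ : G → ℂ) 1 =
          (((signDeg (charDegree (χ : G → ℂ)) : ℚ) * ((a χ : ℚ) * a χ) /
            (charDegree (χ : G → ℂ) : ℕ) : ℚ) : ℂ) by
        rw [ha χ hχ, hallY χ (Finset.mem_of_mem_erase hχ), map_intCast, irr_one_eq_charDegree]
        push_cast; ring, show (principal G : G → ℂ) u * (principal G : G → ℂ) u *
          conj ((principal G : G → ℂ) y) / (principal G : G → ℂ) 1 = ((1 : ℚ) : ℂ) by
        simp [principal], ← Rat.cast_sum, ← Rat.cast_add, ← hC] at h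
    exact_mod_cast h
  have hmem' : ∀ χ ∈ U, (charDegree (χ : G → ℂ), a χ) ∈ tenOpts C := by
    intro χ hχ
    obtain ⟨-, hr, h2⟩ := hmem χ hχ
    refine List.mem_flatMap.2 ⟨_, degOK_sound lists_ok.2.2.2.2.2.2.2.2.2.1 h2
      (by rw [← hN, ← pow_two]; exact (H.deg_dvd χ).2) (by norm_num) (hN ▸ charDegree_dvd_card χ) hr,
      mem_tenVals (hlt χ hχ) (h4 χ hχ) ?_ ?_⟩
    · have hi := M12Uniq.dvd_index_mul χ (ha χ hχ)
      rwa [show (Subgroup.centralizer ({u} : Set G)).index = 15840 / C from
        (Nat.div_eq_of_eq_mul_left Nat.card_pos (by rw [Subgroup.index_mul_card, hN])).symm] at hi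
    · have := Finset.single_le_sum (f := fun χ => a χ * a χ) (fun _ _ => mul_self_nonneg _) hχ
      linarith
  have hsum : ∀ {β : Type} [AddCommMonoid β] (f : ℕ × ℤ → β),
      ((U.val.map fun χ : IrrCharacter G => (charDegree (χ : G → ℂ), a χ)).map f).sum =
        ∑ χ ∈ U, f (charDegree (χ : G → ℂ), a χ) := by
    intro β _ f
    rw [Multiset.map_map]; rfl
  refine tenNone_sound (tenDead_of_mem (mem_tenCents hC1440 h10C)) one_pos
    (U.val.map fun χ : IrrCharacter G => (charDegree (χ : G → ℂ), a χ))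
    (by rw [Multiset.card_map, Finset.card_val, hUc])
    (fun x hx => by obtain ⟨χ, hχ, rfl⟩ := Multiset.mem_map.1 hx; exact hmem' χ hχ)
    (fun x hx => by obtain ⟨χ, hχ, rfl⟩ := Multiset.mem_map.1 hx; exact charDegree_pos χ) ?_ ?_ ?_ ?_ ?_
  · rw [hsum]; exact hD
  · rw [hsum]; exact hL
  · rw [hsum]; simpa [tenStart] using hnorm
  · rw [hsum]
    have h := hsq
    rw [hN] at h
    simp only [pow_two] at h
    simp only [tenStart]
    exact_mod_cast h
  · rw [hsum]; simpa [tenStart] using hcount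

end Cfsg.Agent.M12Graph
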