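import Cfsg.Agent.Lib.M12Graph.Basic

/-!
With twelve Sylow subgroups at eleven each of them is self-centralizing.
-/

set_option linter.unusedSectionVars false
set_option linter.style.haveILetI false

namespace Cfsg.Agent.M12Graph

open Cfsg Cfsg.Agent.Blocks Cfsg.Agent.CCSylow Cfsg.Agent.DefOne

universe u

variable {G : Type u} [Group G] [Finite G] [IsSimpleGroup G]

theorem card_V_of_twelve [Fact (Nat.Prime 11)] {P : Sylow 11 G} {V : Subgroup G} {e : ℕ}
    (K : Conf 11 (P : Subgroup G) V (Subgroup.normalizer ((P : Subgroup G) : Set G)) e)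
    (h12 : (Subgroup.normalizer ((P : Subgroup G) : Set G)).index = 12) : Nat.card V = 1 := by
  classical
  haveI : Fintype G := Fintype.ofFinite G
  haveI : Fintype (P : Subgroup G) := Fintype.ofFinite _
  haveI : Fintype V := Fintype.ofFinite _
  haveI : Fintype (Subgroup.normalizer ((P : Subgroup G) : Set G)) := Fintype.ofFinite _
  haveI : Fintype ((P : Subgroup G) →* ℂˣ) := Fintype.ofFinite _
  obtain ⟨y, hy⟩ := exists_ne_one_P K
  have hy1 : (y : G) ≠ 1 := fun h => hy (Subtype.ext h)
  have hyo : orderOf (y : G) = 11 := orderOf_P K y.2 hy1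
  have hcard : Nat.card (Sylow 11 G) = 12 := P.card_eq_index_normalizer.trans h12
  let φ := MulAction.toPermHom G (Sylow 11 G)
  have hfix : ∀ g : G, φ g P = P ↔ g ∈ Subgroup.normalizer ((P : Subgroup G) : Set G) := fun g => by
    show g • P = P ↔ _
    exact Sylow.smul_eq_iff_mem_normalizer
  have hyP : φ y P = P := (hfix y).2 (Subgroup.le_normalizer y.2)
  have hker : φ.ker = ⊥ := by
    refine (IsSimpleGroup.eq_bot_or_eq_top_of_normal φ.ker inferInstance).resolve_right fun h => ?_
    have hN : Subgroup.normalizer ((P : Subgroup G) : Set G) = ⊤ := eq_top_iff.2 fun g _ =>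
      (hfix g).1 (by
        have : g ∈ φ.ker := h ▸ Subgroup.mem_top g
        rw [MonoidHom.mem_ker] at this
        rw [this]; rfl)
    rw [hN, Subgroup.index_top] at h12
    norm_num at h12
  obtain ⟨Q, hQP⟩ : ∃ Q : Sylow 11 G, φ y Q ≠ Q := by
    by_contra hc
    push Not at hc
    have : (y : G) ∈ φ.ker := MonoidHom.mem_ker.2 (Equiv.ext hc)
    rw [hker, Subgroup.mem_bot] at this
    exact hy1 this
  have hy11 : φ y ^ 11 = 1 := by
    rw [← map_pow, orderOf_dvd_iff_pow_eq_one.1 (dvd_of_eq hyo), map_one]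
  have hper : Function.minimalPeriod (φ y) Q = 11 := by
    have hd : Function.minimalPeriod (φ y) Q ∣ 11 := Function.IsPeriodicPt.minimalPeriod_dvd (by
      show (φ y)^[11] Q = Q
      rw [← Equiv.Perm.coe_pow, hy11]; rfl)
    rcases (Nat.dvd_prime (Fact.out : Nat.Prime 11)).1 hd with h | h
    · exact absurd (Function.minimalPeriod_eq_one_iff_isFixedPt.1 h) hQP
    · exact h
  have hiter : ∀ k, (φ y)^[k] Q = ((φ y) ^ k) Q := fun k => by rw [Equiv.Perm.coe_pow]
  have hne : ∀ k, ((φ y) ^ k) Q ≠ P := by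
    intro k h
    have h' : ((φ y) ^ k) P = P := Equiv.Perm.pow_apply_eq_self_of_apply_eq_self hyP k
    exact hQP (by rw [((φ y) ^ k).injective (h.trans h'.symm)]; exact hyP)
  have hcover : ∀ R : Sylow 11 G, R ≠ P → ∃ k, k < 11 ∧ ((φ y) ^ k) Q = R := by
    haveI : Fintype (Sylow 11 G) := Fintype.ofFinite _
    intro R hR
    by_contra hc
    push Not at hc
    have hinj : Set.InjOn (fun k => ((φ y) ^ k) Q) (Finset.range 11 : Set ℕ) := by
      intro a ha b hb hab
      simp only [Finset.coe_range, Set.mem_Iio] at ha hb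
      exact Function.iterate_injOn_Iio_minimalPeriod (f := φ y) (x := Q) (by rw [hper]; exact ha)
        (by rw [hper]; exact hb) (by simpa only [hiter] using hab)
    have hsub : (Finset.range 11).image (fun k => ((φ y) ^ k) Q) ⊆ (Finset.univ.erase P).erase R := by
      intro S hS
      obtain ⟨k, hk, rfl⟩ := Finset.mem_image.1 hS
      simp only [Finset.mem_erase, Finset.mem_univ, and_true]
      exact ⟨hc k (Finset.mem_range.1 hk), hne k⟩
    have h1 := Finset.card_le_card hsub
    rw [Finset.card_image_of_injOn hinj, Finset.card_range,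
      Finset.card_erase_of_mem (Finset.mem_erase.2 ⟨hR, Finset.mem_univ _⟩),
      Finset.card_erase_of_mem (Finset.mem_univ _), Finset.card_univ, ← Nat.card_eq_fintype_card,
      hcard] at h1
    omega
  rw [Subgroup.card_eq_one, Subgroup.eq_bot_iff_forall]
  intro v hv
  have hvP : φ v P = P := (hfix v).2 (Subgroup.centralizer_le_normalizer _ (V_le_centralizer K hv))
  have hvQP : φ v Q ≠ P := fun h => hne 0 (by simpa using (φ v).injective (h.trans hvP.symm))
  obtain ⟨k, hk, hkv⟩ := hcover _ hvQP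
  have hcomm : ∀ j, φ v * φ y ^ j = φ y ^ j * φ v := fun j => by
    rw [← map_pow, ← map_mul, ← map_mul, K.D.pv _ (pow_mem y.2 j) _ hv]
  have heq : φ v = φ y ^ k := by
    refine Equiv.ext fun R => ?_
    by_cases hR : R = P
    · subst hR
      rw [hvP, Equiv.Perm.pow_apply_eq_self_of_apply_eq_self hyP k]
    · obtain ⟨j, -, rfl⟩ := hcover R hR
      rw [← Equiv.Perm.mul_apply, hcomm, Equiv.Perm.mul_apply, ← hkv, ← Equiv.Perm.mul_apply,
        ← Equiv.Perm.mul_apply, ← pow_add, ← pow_add, add_comm]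
  have hvy : v * ((y : G) ^ k)⁻¹ ∈ φ.ker := by
    rw [MonoidHom.mem_ker, map_mul, map_inv, map_pow, heq, mul_inv_cancel]
  rw [hker, Subgroup.mem_bot, mul_inv_eq_one] at hvy
  by_contra hv1
  have hvo := orderOf_P K (hvy ▸ pow_mem y.2 k : v ∈ (P : Subgroup G)) hv1
  exact K.hV (hvo ▸ Subgroup.orderOf_dvd_natCard V hv)

end Cfsg.Agent.M12Graph
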