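import Cfsg.Agent.Lib.M12Graph.Five
import Cfsg.Agent.Lib.M12Graph.TenOne
import Cfsg.Agent.Lib.M12Graph.Twelve
import Cfsg.Agent.Lib.Small.SelfCentral
import Cfsg.Agent.Lib.Small.CommFixed

/-!
The orders of the simple groups dividing 95040 and divisible by eleven.
-/

set_option linter.unusedSectionVars false
set_option linter.style.haveILetI false

namespace Cfsg.Agent.M12Graph

open Cfsg Cfsg.Agent.Char Cfsg.Agent.Blocks Cfsg.Agent.CCSylow Cfsg.Agent.DefOne
open Cfsg.Agent.M12Uniq (signDeg)

universe u

theorem count_check : ((List.range 8641).all fun n => !(Nat.beq (n % 11) 1) ||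
    !(Nat.beq (8640 % n) 0) || ([1, 12, 45, 144, 320, 540, 1728] : List ℕ).contains n) = true := by
  decide +kernel

theorem count_cases {n m : ℕ} (h : n * m ∣ 8640) (h11 : n % 11 = 1) (h1 : 1 < n) :
    n = 12 ∨ n = 45 ∨ n = 144 ∨ n = 320 ∨ n = 540 ∨ n = 1728 := by
  have hn : n ∣ 8640 := (Dvd.intro m rfl).trans h
  have hle := Nat.le_of_dvd (by norm_num) hn
  have h := List.all_eq_true.1 count_check n (List.mem_range.2 (by omega))
  simp only [Bool.or_eq_true, Bool.not_eq_true', ← Bool.not_eq_true, Nat.beq_eq,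
    List.contains_iff_mem, List.mem_cons, List.not_mem_nil, or_false] at h
  rw [Nat.dvd_iff_mod_eq_zero] at hn
  omega

theorem two_pattern_check : ((List.range 309).all fun f =>
    !(Nat.beq (f % 11) 1 || Nat.beq (f % 11) 10) || !(Nat.ble 2 f) || !(Nat.beq (95040 % f) 0) ||
      !(Nat.beq (95040 % (if f % 11 = 1 then f + 1 else f - 1)) 0) || Nat.beq f 10) = true := by
  decide +kernel

theorem consecutive_check : ((List.range 8641).all fun h => !(Nat.ble 2 h) || !(Nat.beq (8640 % h) 0) ||
    !(Nat.beq (h % 11) 1 || Nat.beq (h % 11) 10) ||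
    !(Nat.beq (8640 % (if h % 11 = 1 then h + 1 else h - 1)) 0) || Nat.beq h 10) = true := by
  decide +kernel

theorem not_twelve_square : ((List.range 21).all fun k => (List.range 70).all fun C =>
    !(Nat.beq (C * C) (12 * (k * k))) || Nat.beq C 0) = true := by
  decide +kernel

variable {G : Type u} [Group G] [Fintype G] [IsSimpleGroup G] (H : Hyp G)
  [Fact (Nat.Prime 11)] {P : Sylow 11 G} {V : Subgroup G} {e : ℕ}
  (K : Conf 11 (P : Subgroup G) V (Subgroup.normalizer ((P : Subgroup G) : Set G)) e)

include H K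

theorem e_ne_one : e ≠ 1 := by
  classical
  rintro rfl
  obtain ⟨M, hM⟩ := exists_isPModular_witness 11
  haveI := IsPModular.isPrime hM
  haveI : Fintype (P : Subgroup G) := Fintype.ofFinite _
  haveI : Fintype V := Fintype.ofFinite _
  haveI : Fintype (Subgroup.normalizer ((P : Subgroup G) : Set G)) := Fintype.ofFinite _
  haveI : Fintype ((P : Subgroup G) →* ℂˣ) := Fintype.ofFinite _
  obtain ⟨eb, X, Y, δ, sg, F⟩ := exists_families K hM (trivB V)
  obtain ⟨hXc, hYc, hXd, hYd, hrel, hagree, hprin⟩ := M12Uniq.families_facts hM (by norm_num) K F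
  obtain ⟨hpX, hpsg⟩ := hprin.resolve_right fun h => by rw [h] at hYc; simp at hYc
  have hd1 : charDegree (principal G : G → ℂ) = 1 := Cfsg.Agent.CharX.charDegree_one
  obtain ⟨θ, hθ⟩ := F.nonempty
  have h := hrel θ hθ
  obtain ⟨a, ha⟩ := Finset.card_eq_one.1 hXc
  rw [ha, Finset.mem_singleton] at hpX
  rw [ha, Finset.sum_singleton, ← hpX, hpsg, hd1] at h
  have h1 : charDegree (θ : G → ℂ) = 1 := by
    rcases F.sign with e1 | e1 <;> rw [e1] at h <;> omega
  refine Finset.disjoint_left.1 F.disj (show principal G ∈ X by rw [ha, hpX]; simp) ?_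
  rw [← H.eq_principal h1]; exact hθ

/-- With two the centralizer is the Sylow subgroup. -/
theorem two_card_V (he : e = 2) : Nat.card V = 1 := by
  classical
  subst he
  obtain ⟨M, hM⟩ := exists_isPModular_witness 11
  haveI := IsPModular.isPrime hM
  haveI : Fintype (P : Subgroup G) := Fintype.ofFinite _
  haveI : Fintype V := Fintype.ofFinite _
  haveI : Fintype (Subgroup.normalizer ((P : Subgroup G) : Set G)) := Fintype.ofFinite _
  haveI : Fintype ((P : Subgroup G) →* ℂˣ) := Fintype.ofFinite _
  obtain ⟨eb, X, Y, δ, sg, F⟩ := exists_families K hM (trivB V)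
  obtain ⟨hXc, hYc, hXd, hYd, hrel, hagree, hprin⟩ := M12Uniq.families_facts hM (by norm_num) K F
  obtain ⟨hpX, hpsg⟩ := hprin.resolve_right fun h => by rw [h] at hYc; simp at hYc
  have hd1 : charDegree (principal G : G → ℂ) = 1 := Cfsg.Agent.CharX.charDegree_one
  obtain ⟨χ, hχe⟩ : ∃ χ, X.erase (principal G) = {χ} := Finset.card_eq_one.1 (by
    rw [Finset.card_erase_of_mem hpX, hXc])
  obtain ⟨hne, hχX⟩ := Finset.mem_erase.1 (show χ ∈ X.erase (principal G) by rw [hχe]; simp)
  obtain ⟨θ, hθ⟩ := F.nonempty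
  have h := hrel θ hθ
  rw [← Finset.add_sum_erase _ _ hpX, hpsg, hd1, hχe, Finset.sum_singleton] at h
  obtain ⟨hr, hsg, h2⟩ := signed_member H K hM F hne (F.signX χ hχX) (hXd χ hχX)
  obtain ⟨hfd, hfsq⟩ := H.deg_dvd χ
  have htd := (H.deg_dvd θ).1
  set f := charDegree (χ : G → ℂ) with hf
  have hN := Nat.le_of_dvd (by norm_num) H.dvd
  have hf309 : f < 309 := by
    by_contra hc
    have : 309 * 309 ≤ f * f := Nat.mul_le_mul (by omega) (by omega)
    rw [pow_two] at hfsq
    omega
  have hf10 : f = 10 := by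
    have hc := List.all_eq_true.1 two_pattern_check f (List.mem_range.2 hf309)
    simp only [Bool.or_eq_true, Bool.not_eq_true', ← Bool.not_eq_true, Nat.beq_eq, Nat.ble_eq] at hc
    rw [Nat.dvd_iff_mod_eq_zero] at hfd
    have htf : (if f % 11 = 1 then f + 1 else f - 1) = charDegree (θ : G → ℂ) := by
      rw [hsg, signDeg] at h
      rcases F.sign with r | r <;> rw [r] at h <;> split_ifs at h ⊢ <;> push_cast at h <;> omega
    rw [htf] at hc
    rw [Nat.dvd_iff_mod_eq_zero] at htd
    tauto
  refine card_V_of_no_fixed hM K H (mem_block K hM F (Or.inl hχX)) hne ?_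
  rw [← Finset.add_sum_erase _ _ (Finset.mem_univ (1 : (P : Subgroup G))), OneMemClass.coe_one,
    irr_one_eq_charDegree, ← hf, hf10, Finset.sum_congr rfl fun y hy => by
      rw [← phi_principal K hM (mem_block K hM F (Or.inl hχX)) (Finset.ne_of_mem_erase hy),
        Families.phi_X K F hχX (Finset.ne_of_mem_erase hy), hsg, hf10],
    Finset.sum_const, Finset.card_erase_of_mem (Finset.mem_univ _), Finset.card_univ,
    ← Nat.card_eq_fintype_card, K.hP]
  norm_num [signDeg]

/-- Two is impossible. -/
theorem e_ne_two {n : ℕ} (hn : n % 11 = 1) (h1 : 1 < n) (hG : Nat.card G = n * (e * (11 * Nat.card V))) :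
    e ≠ 2 := by
  intro he
  subst he
  have hV := two_card_V H K rfl
  rw [hV] at hG
  have hN : Nat.card (Subgroup.normalizer ((P : Subgroup G) : Set G)) = 11 * 2 := by
    haveI : Fintype (P : Subgroup G) := Fintype.ofFinite _
    rw [K.D.hcard, K.hP, hV]
  obtain ⟨h, f, h2, hf2, hhd, hfd, hcase, hall⟩ := SelfCentral.involutions_two H.not_prime P
    (by norm_num) K.hP hN (m := 2 * n) (by rw [hG]; ring)
  have hmd : 2 * n ∣ 8640 := by
    have := H.dvd
    rw [hG, show n * (2 * (11 * 1)) = 11 * (2 * n) by ring, show 95040 = 11 * 8640 by norm_num] at this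
    exact (Nat.mul_dvd_mul_iff_left (by norm_num : 0 < 11)).1 this
  have hh10 : h = 10 := by
    have hd := hhd.trans hmd
    have hd' := hfd.trans hmd
    have hle := Nat.le_of_dvd (by norm_num) hd
    have hc := List.all_eq_true.1 consecutive_check h (List.mem_range.2 (by omega))
    simp only [Bool.or_eq_true, Bool.not_eq_true', ← Bool.not_eq_true, Nat.beq_eq, Nat.ble_eq] at hc
    rw [show (if h % 11 = 1 then h + 1 else h - 1) = f by split_ifs <;> omega] at hc
    rw [Nat.dvd_iff_mod_eq_zero] at hd hd'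
    rcases hcase with ⟨a, -⟩ | ⟨a, -⟩ <;> tauto
  subst hh10
  have hf9 : f = 9 := by omega
  subst hf9
  have hn45 : 45 ∣ n := by
    have : 90 ∣ 2 * n := Nat.Coprime.mul_dvd_of_dvd_of_dvd (by norm_num : Nat.Coprime 10 9) hhd hfd
    omega
  haveI : Fact (Nat.Prime 2) := ⟨Nat.prime_two⟩
  obtain ⟨t, ht⟩ := exists_prime_orderOf_dvd_card' (G := G) 2 (by rw [hG]; exact ⟨n * 11, by ring⟩)
  obtain ⟨-, u, hu, heq⟩ := hall t ht
  rcases count_cases (show n * 2 ∣ 8640 by rwa [mul_comm]) hn h1 with r | r | r | r | r | r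
  · subst r; norm_num at hn45
  · subst r
    have hna : ¬ IsMulCommutative G := Small.not_comm_of_card H.not_prime
    have h4 := Small.four_dvd_moved hna (H := (⊥ : Subgroup G)) bot_ne_top ht
    rw [Subgroup.index_bot, hG] at h4
    have hfix : Nat.card (MulAction.fixedBy (G ⧸ (⊥ : Subgroup G)) t) = 0 := by
      rw [Nat.card_eq_zero]
      refine Or.inl ⟨fun ⟨q, hq⟩ => ?_⟩
      induction q using QuotientGroup.induction_on with
      | H g =>
        rw [MulAction.mem_fixedBy, MulAction.Quotient.smul_mk, QuotientGroup.eq, Subgroup.mem_bot,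
          smul_eq_mul] at hq
        have : t = 1 := by
          have h' : t * g = g := inv_mul_eq_one.1 hq
          simpa using h'
        rw [this, orderOf_one] at ht
        omega
    rw [hfix] at h4
    norm_num at h4
  · subst r; norm_num at hn45
  · subst r; norm_num at hn45
  · subst r
    set C := Nat.card (Subgroup.centralizer ({t} : Set G)) with hC
    have hC0 : 0 < C := Nat.card_pos
    rw [hG] at heq
    push_cast at heq
    set k := ((10 : ℤ) - u).natAbs with hk
    have hkk : ((k : ℤ)) * k = ((10 : ℤ) - u) ^ 2 := by rw [hk, pow_two, Int.natAbs_mul_self']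
    have hCk : C * C = 12 * (k * k) := by
      have : ((C * C : ℕ) : ℤ) = ((12 * (k * k) : ℕ) : ℤ) := by push_cast; rw [hkk]; linarith
      exact_mod_cast this
    have hk20 : k < 21 := by omega
    have hC70 : C < 70 := by
      by_contra hc
      have : 70 * 70 ≤ C * C := Nat.mul_le_mul (by omega) (by omega)
      have : k * k ≤ 20 * 20 := Nat.mul_le_mul (by omega) (by omega)
      omega
    have hc := List.all_eq_true.1 (List.all_eq_true.1 not_twelve_square k (List.mem_range.2 hk20)) C
      (List.mem_range.2 hC70)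
    simp only [Bool.or_eq_true, Bool.not_eq_true', ← Bool.not_eq_true, Nat.beq_eq] at hc
    omega
  · subst r; norm_num at hn45

omit K in
/-- The orders. -/
theorem order_cases : Nat.card G = 660 ∨ Nat.card G = 7920 ∨ Nat.card G = 95040 := by
  classical
  obtain ⟨P⟩ : Nonempty (Sylow 11 G) := inferInstance
  obtain ⟨V, e, K, -⟩ := exists_conf (by norm_num) P (H.card_sylow P)
  haveI : Fintype (P : Subgroup G) := Fintype.ofFinite _
  haveI : Fintype V := Fintype.ofFinite _
  haveI : Fintype (Subgroup.normalizer ((P : Subgroup G) : Set G)) := Fintype.ofFinite _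
  haveI : Fintype ((P : Subgroup G) →* ℂˣ) := Fintype.ofFinite _
  set n := (Subgroup.normalizer ((P : Subgroup G) : Set G)).index with hn
  have hcard : Nat.card G = n * (e * (11 * Nat.card V)) := by
    rw [← (Subgroup.normalizer ((P : Subgroup G) : Set G)).index_mul_card, ← hn, K.D.hcard, K.hP]
  have hn11 : n % 11 = 1 := by
    have h := card_sylow_modEq_one 11 G
    rw [P.card_eq_index_normalizer] at h
    exact h
  have hn1 : 1 < n := by
    refine lt_of_le_of_ne (Nat.one_le_iff_ne_zero.2 Subgroup.index_ne_zero_of_finite) fun h => ?_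
    have hnorm : (P : Subgroup G).Normal :=
      Subgroup.normalizer_eq_top_iff.1 (Subgroup.index_eq_one.1 h.symm)
    rcases hnorm.eq_bot_or_eq_top with r | r
    · have := K.hP; rw [r, Subgroup.card_bot] at this; omega
    · have := K.hP
      rw [r, Subgroup.card_top] at this
      exact H.not_prime (this ▸ by norm_num)
  have hmd : n * (e * Nat.card V) ∣ 8640 := by
    have := H.dvd
    rw [hcard, show n * (e * (11 * Nat.card V)) = 11 * (n * (e * Nat.card V)) by ring,
      show 95040 = 11 * 8640 by norm_num] at this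
    exact (Nat.mul_dvd_mul_iff_left (by norm_num : 0 < 11)).1 this
  have he : e = 5 ∨ e = 10 := by
    have hd : e ∣ 10 := by
      have := dvd_card_sub_one K.D
      rwa [K.hP] at this
    have := Nat.le_of_dvd (by norm_num) hd
    have h1 := e_ne_one H K
    have h2 := e_ne_two H K hn11 hn1 hcard
    interval_cases e <;> first | omega | norm_num at hd
  set v := Nat.card V with hv
  have hv0 : 0 < v := Nat.card_pos
  rcases count_cases hmd hn11 hn1 with r | r | r | r | r | r
  · have hv1 : v = 1 := card_V_of_twelve K r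
    rcases he with rfl | rfl
    · exact Or.inl (by rw [hcard, r, hv1])
    · exact (ten_cases H K (Or.inr (Or.inr (by rw [hcard, r, hv1])))).elim
  · exfalso
    rw [r] at hmd
    have := (Nat.mul_dvd_mul_iff_left (by norm_num : 0 < 45)).1 (show 45 * (e * v) ∣ 45 * 192 by simpa using hmd)
    have h5 : 5 ∣ 192 := (show 5 ∣ e * v by rcases he with rfl | rfl <;> omega).trans this
    norm_num at h5
  · rw [r] at hmd
    have hd := (Nat.mul_dvd_mul_iff_left (by norm_num : 0 < 144)).1 (show 144 * (e * v) ∣ 144 * 60 by simpa using hmd)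
    rcases he with rfl | rfl
    · have hd' : v ∣ 12 := (Nat.mul_dvd_mul_iff_left (by norm_num : 0 < 5)).1 (show 5 * v ∣ 5 * 12 by simpa using hd)
      have := Nat.le_of_dvd (by norm_num) hd'
      have hcase : v = 1 ∨ v = 12 ∨ (v = 2 ∨ v = 3 ∨ v = 4 ∨ v = 6) := by
        interval_cases v <;> first | omega | norm_num at hd'
      rcases hcase with h | h | h
      · exact Or.inr (Or.inl (by rw [hcard, r, h]))
      · exact Or.inr (Or.inr (by rw [hcard, r, h]))
      · exact (five_cases H K rfl (by rw [hcard, r]; ring) h).elim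
    · have hd' : v ∣ 6 := (Nat.mul_dvd_mul_iff_left (by norm_num : 0 < 10)).1 (show 10 * v ∣ 10 * 6 by simpa using hd)
      have := Nat.le_of_dvd (by norm_num) hd'
      have hcase : v = 1 ∨ v = 2 ∨ v = 3 ∨ v = 6 := by
        interval_cases v <;> first | omega | norm_num at hd'
      rcases hcase with h | h | h | h
      · exact (ten_one H K h (by rw [hcard, r, h])).elim
      · exact (ten_cases H K (Or.inl ⟨by rw [hcard, r, h], ⟨1, h⟩⟩)).elim
      · exact (ten_cases H K (Or.inr (Or.inl ⟨by rw [hcard, r, h], ⟨1, h⟩⟩))).elim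
      · exact Or.inr (Or.inr (by rw [hcard, r, h]))
  · exfalso
    rw [r] at hmd
    have := (Nat.mul_dvd_mul_iff_left (by norm_num : 0 < 320)).1
      (show 320 * (e * v) ∣ 320 * 27 by simpa using hmd)
    have h5 : 5 ∣ 27 := (show 5 ∣ e * v by rcases he with rfl | rfl <;> omega).trans this
    norm_num at h5
  · exfalso
    rw [r] at hmd
    have := (Nat.mul_dvd_mul_iff_left (by norm_num : 0 < 540)).1 (show 540 * (e * v) ∣ 540 * 16 by simpa using hmd)
    have h5 : 5 ∣ 16 := (show 5 ∣ e * v by rcases he with rfl | rfl <;> omega).trans this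
    norm_num at h5
  · rw [r] at hmd
    have hd := (Nat.mul_dvd_mul_iff_left (by norm_num : 0 < 1728)).1 (show 1728 * (e * v) ∣ 1728 * 5 by simpa using hmd)
    have hle := Nat.le_of_dvd (by norm_num) hd
    rcases he with rfl | rfl
    · exact Or.inr (Or.inr (by rw [hcard, r, show v = 1 by omega]))
    · omega

end Cfsg.Agent.M12Graph
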