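import Cfsg.Agent.Lib.M12Graph.Kill

/-!
The patterns at eleven when the normaliser induces the whole automorphism group.
-/

set_option linter.unusedSectionVars false
set_option linter.style.haveILetI false

namespace Cfsg.Agent.M12Graph

open Cfsg Cfsg.Agent.Char Cfsg.Agent.Blocks Cfsg.Agent.CCSylow Cfsg.Agent.DefOne
open Cfsg.Agent.M12Uniq (signDeg)

universe u

variable {G : Type u} [Group G] [Fintype G] [IsSimpleGroup G] (H : Hyp G)
  [Fact (Nat.Prime 11)] {P : Sylow 11 G} {V : Subgroup G}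
  (K : Conf 11 (P : Subgroup G) V (Subgroup.normalizer ((P : Subgroup G) : Set G)) 10)
  [Fintype (P : Subgroup G)] [Fintype V] [Fintype (Subgroup.normalizer ((P : Subgroup G) : Set G))]
  [Fintype ((P : Subgroup G) →* ℂˣ)] {M : Ideal AlgInt} [M.IsPrime] (hM : IsPModular 11 M)
  {eb : ℕ} {X Y : Finset (IrrCharacter G)} {δ : ℤ} {sg : IrrCharacter G → ℤ}
  (F : Families K (trivB V) eb X Y δ sg)

include H K hM F

/-- The eleven members of the principal block. -/
theorem ten_data [DecidableEq (IrrCharacter G)] :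
    ((X ∪ Y).erase (principal G)).card = 10 ∧
    (∀ χ ∈ (X ∪ Y).erase (principal G),
      ((χ ∈ X ∨ χ ∈ Y) ∧ χ ≠ principal G) ∧
      (charDegree (χ : G → ℂ) % 11 = 1 ∨ charDegree (χ : G → ℂ) % 11 = 11 - 1) ∧
      2 ≤ charDegree (χ : G → ℂ)) ∧
    (∀ g : G, ¬ 11 ∣ orderOf g → 1 + ∑ χ ∈ (X ∪ Y).erase (principal G),
      (signDeg (charDegree (χ : G → ℂ)) : ℂ) * (χ : G → ℂ) g = 0) ∧
    1 + ∑ χ ∈ (X ∪ Y).erase (principal G), charDegree (χ : G → ℂ) ^ 2 ≤ Nat.card G ∧
    principal G ∈ X ∪ Y ∧ (∀ χ ∈ X, sg χ = signDeg (charDegree (χ : G → ℂ))) ∧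
    Y.card = 1 ∧ ∀ χ ∈ Y, δ = signDeg (charDegree (χ : G → ℂ)) := by
  obtain ⟨hXc, hYc, hXd, hYd, hrel, hagree, hprin⟩ := M12Uniq.families_facts hM (by norm_num) K F
  have hd1 : charDegree (principal G : G → ℂ) = 1 := Cfsg.Agent.CharX.charDegree_one
  have hY1 : Y.card = 1 := by omega
  obtain ⟨θ, hYe⟩ := Finset.card_eq_one.1 hY1
  have hθ : θ ∈ Y := by rw [hYe]; exact Finset.mem_singleton_self _
  have hsX : ∀ χ ∈ X, sg χ = signDeg (charDegree (χ : G → ℂ)) := by
    intro χ hχ
    by_cases hp : χ = principal G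
    · subst hp
      rw [(hprin.resolve_right fun h => Finset.disjoint_left.1 F.disj hχ (by
        rw [h]; exact Finset.mem_singleton_self _)).2, hd1]
      rfl
    · exact (signed_member H K hM F hp (F.signX χ hχ) (hXd χ hχ)).2.1
  have hmodY : ∀ χ ∈ Y, (charDegree (χ : G → ℂ) : ℤ) ≡ δ [ZMOD 11] := fun χ hχ => by
    have h := hYd χ hχ
    rw [Int.ModEq] at h ⊢
    push_cast at h
    omega
  have hsY : ∀ χ ∈ Y, δ = signDeg (charDegree (χ : G → ℂ)) := by
    intro χ hχ
    by_cases hp : χ = principal G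
    · subst hp
      have h := hmodY _ hχ
      rw [hd1, Int.ModEq] at h
      rw [hd1]
      show δ = 1
      rcases F.sign with r | r <;> rw [r] at h ⊢
      norm_num at h
    · exact (signed_member H K hM F hp F.sign (hmodY χ hχ)).2.1
  have hpU : principal G ∈ X ∪ Y := by
    rcases hprin with ⟨h, -⟩ | h
    · exact Finset.mem_union_left _ h
    · exact Finset.mem_union_right _ (by rw [h]; exact Finset.mem_singleton_self _)
  refine ⟨?_, fun χ hχ => ?_, fun g hg => ?_, ?_, hpU, hsX, hY1, hsY⟩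
  · rw [Finset.card_erase_of_mem hpU, Finset.card_union_of_disjoint F.disj, hXc, hY1]
  · have hne := Finset.ne_of_mem_erase hχ
    rcases Finset.mem_union.1 (Finset.mem_of_mem_erase hχ) with h | h
    · obtain ⟨a, -, b⟩ := signed_member H K hM F hne (F.signX χ h) (hXd χ h)
      exact ⟨⟨Or.inl h, hne⟩, a, b⟩
    · obtain ⟨a, -, b⟩ := signed_member H K hM F hne F.sign (hmodY χ h)
      exact ⟨⟨Or.inr h, hne⟩, a, b⟩
  · have h := Families.relation K F hθ hg
    rw [Finset.sum_congr rfl fun χ hχ => by rw [hsX χ hχ]] at h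
    have h' : ∑ χ ∈ X ∪ Y, (signDeg (charDegree (χ : G → ℂ)) : ℂ) * (χ : G → ℂ) g = 0 := by
      rw [Finset.sum_union F.disj, hYe, Finset.sum_singleton, ← hsY θ hθ]
      exact h
    rw [← Finset.add_sum_erase _ _ hpU, hd1] at h'
    simpa [principal, signDeg] using h'
  · have h := Finset.sum_le_sum_of_subset (f := fun χ : IrrCharacter G => charDegree (χ : G → ℂ) ^ 2)
      (Finset.subset_univ (X ∪ Y))
    rw [Cfsg.Agent.CharX.sum_deg_sq, ← Finset.add_sum_erase _ _ hpU, hd1] at h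
    simpa using h

/-- No pattern in a single family of eleven. -/
theorem ten_dead {N lo : ℕ} {L : List ℕ} {good : List ℕ → Bool} (hN : Nat.card G = N)
    (hbound : ∀ χ, (χ ∈ X ∨ χ ∈ Y) → χ ≠ principal G → 2 ≤ charDegree (χ : G → ℂ) →
      lo ≤ charDegree (χ : G → ℂ))
    (hL : degOK N lo 1 L = true) (hall : allMulti (tenTest N good) 10 L [] = true)
    (hgood : ∀ l, good l = true → 3 ∣ Nat.card V ∧ threeDead N l = true) : False := by
  classical
  obtain ⟨hc, hmem, hrel, hsq, -⟩ := ten_data H K hM F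
  set U := (X ∪ Y).erase (principal G) with hU
  have hN95 : N ≤ 95040 := hN ▸ Nat.le_of_dvd (by norm_num) H.dvd
  obtain ⟨l, hl, hPl⟩ := allMulti_sound hall (U.val.map fun χ : IrrCharacter G => charDegree (χ : G → ℂ))
    (by rw [Multiset.card_map, Finset.card_val, hc])
    (fun d hd => by
      obtain ⟨χ, hχ, rfl⟩ := Multiset.mem_map.1 hd
      obtain ⟨⟨h, hne⟩, hr, h2⟩ := hmem χ hχ
      exact degOK_sound hL (hbound χ h hne h2) (by rw [← hN, ← pow_two]; exact (H.deg_dvd χ).2) hN95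
        (hN ▸ charDegree_dvd_card χ) hr)
  rw [Multiset.coe_nil, add_zero] at hl
  have hlsum : ∀ {β : Type} [AddCommMonoid β] (f : ℕ → β),
      (l.map f).sum = ∑ χ ∈ U, f (charDegree (χ : G → ℂ)) := by
    intro β _ f
    rw [← Multiset.sum_coe, ← Multiset.map_coe, hl, Multiset.map_map]
    rfl
  simp only [tenTest, Bool.or_eq_true, Bool.not_eq_true', ← Bool.not_eq_true, decide_eq_true_eq,
    Nat.ble_eq] at hPl
  rcases hPl with (h | h) | h
  · refine h ?_
    have h1 := hrel 1 (by simp)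
    simp only [irr_one_eq_charDegree] at h1
    rw [listTotal, hlsum fun d => signDeg d * (d : ℤ)]
    exact_mod_cast h1
  · refine h ?_
    rw [listSq, hlsum fun d => d * d, ← hN]
    simpa [pow_two] using hsq
  obtain ⟨h3, hdead⟩ := hgood l h
  exact three_kill H K hM F h3 (U := U) (fun χ hχ => (hmem χ hχ).1) hl.symm (hN ▸ hdead)

omit hM F in
/-- With ten, the orders excluded by the degrees alone or by an element of order three. -/
theorem ten_cases (h : (Nat.card G = 31680 ∧ 2 ∣ Nat.card V) ∨ (Nat.card G = 47520 ∧ 3 ∣ Nat.card V) ∨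
    Nat.card G = 1320) : False := by
  classical
  obtain ⟨M, hM⟩ := exists_isPModular_witness 11
  haveI := IsPModular.isPrime hM
  obtain ⟨eb, X, Y, δ, sg, F⟩ := exists_families K hM (trivB V)
  rcases h with ⟨hN, h2⟩ | ⟨hN, h3⟩ | hN
  · exact ten_dead H K hM F hN (fun χ h hne _ => two_bound H K hM F h hne h2) lists_ok.2.2.1 ten_two
      fun l h => by simp at h
  · exact ten_dead H K hM F hN (fun χ h hne _ => three_bound H K hM F h hne h3)
      lists_ok.2.2.2.2.2.2.2.2.1 ten_three fun l h => ⟨h3, h⟩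
  · exact ten_dead H K hM F hN (fun χ h hne h2 => h2) lists_ok.2.2.2.2.2.2.2.2.2.2 ten_twelve
      fun l h => by simp at h

end Cfsg.Agent.M12Graph
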